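import Mathlib.RingTheory.Grassmannian
import Mathlib.LinearAlgebra.TensorProduct.RightExactness
import Mathlib.LinearAlgebra.TensorProduct.Pi
import Groth.Agent.Fga.Grass

/-!
# Mathlib's Grassmannian functor: base change as a span, comparison with submodules of `A^ι`

* `map_toSubmodule_eq_span`: base change of a point `N` along `f : A → B` is the span of the image of `N`;
* `theta`: `A ⊗ M ≃ A^ι` for `M ≃ R^ι`;
* `grEquiv`, `grEquiv_map`: points of the Grassmannian functor of `M ≃ R^ι` are points of `grFun ι k`.
-/

set_option autoImplicit false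
universe u v w
open TensorProduct CategoryTheory

namespace K652.MapSpan

section Span

variable {R : Type u} [CommRing R] {M : Type v} [AddCommGroup M] [Module R M] {k : ℕ}
  {A B : Type w} [CommRing A] [Algebra R A] [CommRing B] [Algebra R B]

/-- The map `A ⊗ M → B ⊗ M`. -/
noncomputable def bcM (M : Type v) [AddCommGroup M] [Module R M] (f : A →ₐ[R] B) : A ⊗[R] M →ₗ[R] B ⊗[R] M :=
  TensorProduct.map f.toLinearMap LinearMap.id

@[simp] theorem bcM_tmul (f : A →ₐ[R] B) (a : A) (m : M) : bcM M f (a ⊗ₜ m) = f a ⊗ₜ m := rfl

theorem bcM_smul (f : A →ₐ[R] B) (a : A) (x : A ⊗[R] M) : bcM M f (a • x) = f a • bcM M f x := by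
  induction x using TensorProduct.induction_on with
  | zero => simp
  | tmul b m => simp [TensorProduct.smul_tmul']
  | add x y hx hy => rw [smul_add, map_add, hx, hy, map_add, smul_add]

/-- The base change of a point of the Grassmannian is the span of its image. -/
theorem map_toSubmodule_eq_span (f : A →ₐ[R] B) (N : Module.Grassmannian A (A ⊗[R] M) k) :
    (Module.Grassmannian.map f N).toSubmodule = Submodule.span B (bcM M f '' (N.toSubmodule : Set (A ⊗[R] M))) := by
  let _ : Algebra A B := f.toAlgebra
  have _ : IsScalarTower R A B := IsScalarTower.of_algebraMap_eq' <| IsScalarTower.algebraMap_eq R A B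
  rw [Module.Grassmannian.map_toSubmodule]
  have hc : ∀ x : A ⊗[R] M, (TensorProduct.AlgebraTensorModule.cancelBaseChange R A B B M)
      ((1 : B) ⊗ₜ[A] x) = bcM M f x := by
    intro x
    induction x using TensorProduct.induction_on with
    | zero => simp
    | tmul b m =>
      rw [TensorProduct.AlgebraTensorModule.cancelBaseChange_tmul, bcM_tmul]
      congr 1
      rw [Algebra.smul_def, mul_one]
      rfl
    | add x y hx hy => rw [TensorProduct.tmul_add, map_add, hx, hy, map_add]
  apply le_antisymm
  · intro x hx
    obtain ⟨y, rfl⟩ := (TensorProduct.AlgebraTensorModule.cancelBaseChange R A B B M).surjective x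
    rw [LinearMap.mem_ker, Module.Grassmannian.baseChangeMkQ, LinearMap.comp_apply, LinearEquiv.coe_coe,
      LinearEquiv.symm_apply_apply] at hx
    have h1 : y ∈ LinearMap.ker (LinearMap.lTensor B N.toSubmodule.mkQ) := hx
    rw [lTensor_mkQ] at h1
    clear hx
    obtain ⟨z, rfl⟩ := h1
    induction z using TensorProduct.induction_on with
    | zero => simp
    | tmul b n =>
      have h2 : (LinearMap.lTensor B N.toSubmodule.subtype) (b ⊗ₜ n) = b • ((1 : B) ⊗ₜ[A] (n : A ⊗[R] M)) := by
        rw [LinearMap.lTensor_tmul, TensorProduct.smul_tmul', smul_eq_mul, mul_one]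
        rfl
      rw [h2, map_smul, hc]
      exact Submodule.smul_mem _ _ (Submodule.subset_span ⟨_, n.2, rfl⟩)
    | add x y hx hy =>
      rw [map_add, map_add]
      exact Submodule.add_mem _ hx hy
  · rw [Submodule.span_le]
    rintro _ ⟨x, hx, rfl⟩
    rw [SetLike.mem_coe, LinearMap.mem_ker, Module.Grassmannian.baseChangeMkQ, LinearMap.comp_apply,
      LinearEquiv.coe_coe, ← hc, LinearEquiv.symm_apply_apply]
    rw [LinearMap.baseChange_tmul, Submodule.mkQ_apply, (Submodule.Quotient.mk_eq_zero _).2 hx,
      TensorProduct.tmul_zero]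

end Span

section Theta

open Groth.Agent.Fga.GrassBasic Groth.Agent.Fga.Grass

variable {R : Type u} [CommRing R] {M : Type v} [AddCommGroup M] [Module R M] {ι : Type} [Fintype ι] [DecidableEq ι]
  (b : M ≃ₗ[R] (ι → R)) {k : ℕ}

/-- `A ⊗ M ≃ A^ι`. -/
noncomputable def theta (A : Type w) [CommRing A] [Algebra R A] : A ⊗[R] M ≃ₗ[A] (ι → A) :=
  (b.baseChange R A M (ι → R)).trans (TensorProduct.piScalarRight R A A ι)

@[simp] theorem theta_tmul {A : Type w} [CommRing A] [Algebra R A] (a : A) (m : M) (i : ι) :
    theta b A (a ⊗ₜ m) i = b m i • a := by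
  simp [theta]

theorem theta_bcM {A B : Type w} [CommRing A] [Algebra R A] [CommRing B] [Algebra R B] (f : A →ₐ[R] B)
    (x : A ⊗[R] M) : theta b B (bcM M f x) = fun i => f (theta b A x i) := by
  induction x using TensorProduct.induction_on with
  | zero => ext i; simp
  | tmul a m => ext i; simp
  | add x y hx hy =>
    ext i
    rw [map_add, map_add, hx, hy, map_add]
    simp

/-- Points of the Grassmannian functor of `M ≃ R^ι` are submodules of `A^ι`. -/
noncomputable def grEquiv (A : Type u) [CommRing A] [Algebra R A] :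
    Module.Grassmannian A (A ⊗[R] M) k ≃ {L : Submodule A (ι → A) // IsQuotRank k L} where
  toFun N := ⟨N.toSubmodule.map (theta b A).toLinearMap, by
    have e := Submodule.Quotient.equiv N.toSubmodule (N.toSubmodule.map (theta b A).toLinearMap) (theta b A) rfl
    have := N.finite_quotient
    have := N.projective_quotient
    exact ⟨Module.Projective.of_equiv e, fun p => by
      rw [← Module.rankAtStalk_eq_of_equiv e]
      exact N.rankAtStalk_eq p⟩⟩
  invFun L :=
    have e := (Submodule.Quotient.equiv (L.1.map (theta b A).symm.toLinearMap) L.1 (theta b A) (by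
      ext x
      simp [Submodule.mem_map]))
    { toSubmodule := L.1.map (theta b A).symm.toLinearMap
      finite_quotient := Module.Finite.equiv e.symm
      projective_quotient := have := L.2.proj; Module.Projective.of_equiv e.symm
      rankAtStalk_eq := fun p => by
        have := L.2.proj
        rw [Module.rankAtStalk_eq_of_equiv e]
        exact L.2.rank p }
  left_inv N := by
    ext x
    simp [Submodule.mem_map]
  right_inv L := by
    ext x
    simp [Submodule.mem_map]

theorem grEquiv_val (A : Type u) [CommRing A] [Algebra R A] (N : Module.Grassmannian A (A ⊗[R] M) k) :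
    (grEquiv b A N).1 = N.toSubmodule.map (theta b A).toLinearMap := rfl

theorem grEquiv_map {A B : Type u} [CommRing A] [Algebra R A] [CommRing B] [Algebra R B] (f : A →ₐ[R] B)
    (N : Module.Grassmannian A (A ⊗[R] M) k) :
    (grEquiv b B (Module.Grassmannian.map f N)).1 = bc f.toRingHom (grEquiv b A N).1 := by
  rw [grEquiv_val, grEquiv_val, map_toSubmodule_eq_span, Submodule.map_span]
  apply le_antisymm
  · rw [Submodule.span_le]
    rintro _ ⟨_, ⟨x, hx, rfl⟩, rfl⟩
    have h1 := theta_bcM b f x
    change theta b B (bcM M f x) ∈ _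
    rw [h1]
    exact mem_bc_of_mem f.toRingHom ⟨x, hx, rfl⟩
  · rw [bc_le_iff]
    rintro _ ⟨x, hx, rfl⟩
    refine Submodule.subset_span ⟨bcM M f x, ⟨x, hx, rfl⟩, ?_⟩
    exact theta_bcM b f x

end Theta

end K652.MapSpan
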