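import Groth.Agent.Krr.H490.LocBasisPull

/-!
# Pull-back of finite locally free modules of constant rank
-/

set_option autoImplicit false
universe u
open CategoryTheory CategoryTheory.Limits AlgebraicGeometry

namespace K652.LfRank

open Groth.Agent.Sga67.Sec Groth.Agent.Sga67.LocBasis Groth.Agent.Krr.H490.LocBasisPull

/-- The inverse image of a finite locally free module of rank `r` is finite locally free of rank `r`. -/
theorem pullback {X Y : Scheme.{u}} {r : ℕ} (f : X ⟶ Y) {M : Y.Modules}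
    (hM : FlatMod.IsFinLocFreeOfRank r M) :
    FlatMod.IsFinLocFreeOfRank r ((Scheme.Modules.pullback f).obj M) := by
  intro x
  obtain ⟨V, hV, e⟩ := hM (f x)
  obtain ⟨b, hb⟩ := nonempty_restrict_iso_iff.mp e
  exact ⟨f ⁻¹ᵁ V, hV, nonempty_restrict_iso_iff.mpr ⟨_, isLocBasis_psec f M le_rfl hb⟩⟩

/-- Transport along an isomorphism. -/
theorem of_iso {X : Scheme.{u}} {r : ℕ} {M N : X.Modules} (e : M ≅ N)
    (hM : FlatMod.IsFinLocFreeOfRank r M) : FlatMod.IsFinLocFreeOfRank r N := by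
  intro x
  obtain ⟨V, hV, e'⟩ := hM x
  obtain ⟨b, hb⟩ := nonempty_restrict_iso_iff.mp e'
  exact ⟨V, hV, nonempty_restrict_iso_iff.mpr ⟨_, hb.of_iso e⟩⟩

/-- Characterisation through local bases. -/
theorem iff_locBasis {X : Scheme.{u}} {r : ℕ} {M : X.Modules} :
    FlatMod.IsFinLocFreeOfRank r M ↔ ∀ x : X, ∃ U : X.Opens, x ∈ U ∧ ∃ b : Fin r → Sec M U, IsLocBasis b := by
  constructor
  · intro h x
    obtain ⟨V, hV, e⟩ := h x
    exact ⟨V, hV, nonempty_restrict_iso_iff.1 e⟩
  · intro h x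
    obtain ⟨V, hV, e⟩ := h x
    exact ⟨V, hV, nonempty_restrict_iso_iff.2 e⟩

end K652.LfRank
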