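import Groth.Agent.Grass.K652.BasisCrit
import Groth.Agent.Krr.H490.NrmSub2

/-!
# Local bases near a point

* `exists_near_of_pull`: if the pull-back of a family is a local basis, the family is a local basis near the image;
* `exists_sub_near`: a generating family of a module locally free of rank `r` contains a local basis near each point.
-/

set_option autoImplicit false
universe u

open CategoryTheory CategoryTheory.Limits AlgebraicGeometry Opposite TopologicalSpace

namespace K652.NearBasis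

open Groth.Agent.Sga67.Sec Groth.Agent.Sga67.LocBasis Groth.Agent.Sga67.LocBasisStalk
  Groth.Agent.Krr.H490.LocBasisPull K652.BasisCrit
open Groth.Agent.Krr.H490.NrmSub2 (isUnit_basicOpen mem_basicOpen_of_isUnit)

variable {X Y : Scheme.{u}} {M : X.Modules} {W : X.Opens}

/-- A local basis near a point, inside a given open. -/
theorem exists_locBasis_near {r : ℕ} (hM : FlatMod.IsFinLocFreeOfRank r M) (x : X) (hx : x ∈ W) :
    ∃ (V : X.Opens) (_ : V ≤ W) (b : Fin r → Sec M V), x ∈ V ∧ IsLocBasis b := by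
  obtain ⟨U, hU, e⟩ := hM x
  obtain ⟨b, hb⟩ := nonempty_restrict_iso_iff.1 e
  exact ⟨W ⊓ U, inf_le_left, _, ⟨hx, hU⟩, hb.restrict inf_le_right⟩

theorem psec_smul (g : Y ⟶ X) {V : Y.Opens} (e : V ≤ g ⁻¹ᵁ W) (a : Γ(X, W)) (s : Sec M W) :
    psec g M e (a • s) = g.appLE W V e a • psec g M e s :=
  Groth.Agent.VarietyB.PullSec.sec_smul g M e a s

theorem psec_sum (g : Y ⟶ X) {V : Y.Opens} (e : V ≤ g ⁻¹ᵁ W) {κ : Type*} (S : Finset κ) (s : κ → Sec M W) :
    psec g M e (∑ k ∈ S, s k) = ∑ k ∈ S, psec g M e (s k) :=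
  map_sum (Groth.Agent.VarietyB.PullSec.sec g M e) s S

theorem psec_res (g : Y ⟶ X) {V : Y.Opens} (e : V ≤ g ⁻¹ᵁ W) {W' : X.Opens} {V' : Y.Opens}
    (e' : V' ≤ g ⁻¹ᵁ W') (hW : W' ≤ W) (hV : V' ≤ V) (s : Sec M W) :
    res _ hV (psec g M e s) = psec g M e' (res M hW s) :=
  Groth.Agent.VarietyB.PullSec.sec_res g M e e' hW hV s

theorem isMat_psec (g : Y ⟶ X) {V : Y.Opens} (e : V ≤ g ⁻¹ᵁ W) {κ κ' : Type*} [Fintype κ] {b : κ → Sec M W}
    {c : κ' → Sec M W} {P : Matrix κ κ' Γ(X, W)} (h : IsMat b c P) :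
    IsMat (fun i => psec g M e (b i)) (fun j => psec g M e (c j)) (P.map (g.appLE W V e)) := by
  intro j
  have h1 : psec g M e (c j) = psec g M e (∑ i, P i j • b i) := by rw [← h j]
  refine h1.trans ?_
  rw [psec_sum]
  refine Finset.sum_congr rfl fun i _ => ?_
  rw [psec_smul]
  rfl

/-- Where the determinant is invertible, the family is a local basis. -/
theorem isLocBasis_basicOpen {κ : Type*} [Fintype κ] [DecidableEq κ] {b : κ → Sec M W} {c : κ → Sec M W}
    {P : Matrix κ κ Γ(X, W)} (hb : IsLocBasis b) (h : IsMat b c P) :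
    IsLocBasis (fun j => res M (X.basicOpen_le P.det) (c j)) := by
  refine isLocBasis_of_isUnit_det (hb.restrict (X.basicOpen_le P.det)) (h.restrict _) ?_
  have h1 := isUnit_basicOpen P.det (V := X.basicOpen P.det) (X.basicOpen_le _) le_rfl
  rwa [RingHom.map_det] at h1

/-- If the pull-back of a family is a local basis, then the family is a local basis near the image. -/
theorem exists_near_of_pull {r : ℕ} (hM : FlatMod.IsFinLocFreeOfRank r M) (c : Fin r → Sec M W) (g : Y ⟶ X)
    {V : Y.Opens} (e : V ≤ g ⁻¹ᵁ W) (h : IsLocBasis (fun j => psec g M e (c j))) (y : Y) (hy : y ∈ V) :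
    ∃ (W' : X.Opens) (hW' : W' ≤ W), g y ∈ W' ∧ IsLocBasis (fun j => res M hW' (c j)) := by
  obtain ⟨W₀, hW₀, b, hyW₀, hb⟩ := exists_locBasis_near hM (g y) (e hy)
  obtain ⟨P, hP⟩ := exists_isMat hb (fun j => res M hW₀ (c j))
  let V' : Y.Opens := V ⊓ g ⁻¹ᵁ W₀
  have eV : V' ≤ g ⁻¹ᵁ W₀ := inf_le_right
  have h1 := isLocBasis_psec g M eV hb
  have h2 := isMat_psec g eV hP
  have h3 : IsLocBasis (fun j => psec g M eV (res M hW₀ (c j))) := by
    have := h.restrict (inf_le_left : V' ≤ V)
    have h4 : (fun j => res _ (inf_le_left : V' ≤ V) (psec g M e (c j))) =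
        fun j => psec g M eV (res M hW₀ (c j)) := by
      funext j
      exact psec_res g e eV hW₀ inf_le_left (c j)
    rwa [h4] at this
  have h5 := isUnit_det h1 h2 h3
  have h6 : (P.map (g.appLE W₀ V' eV)).det = g.appLE W₀ V' eV P.det := by
    have := RingHom.map_det (g.appLE W₀ V' eV).hom P
    exact this.symm
  rw [h6] at h5
  have h7 : g y ∈ X.basicOpen P.det := by
    have h8 : y ∈ Y.basicOpen (g.app W₀ P.det) := by
      refine mem_basicOpen_of_isUnit _ eV ?_ y ⟨hy, hyW₀⟩
      exact h5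
    rw [← Scheme.preimage_basicOpen] at h8
    exact h8
  refine ⟨X.basicOpen P.det, (X.basicOpen_le _).trans hW₀, h7, ?_⟩
  have h9 := isLocBasis_basicOpen hb hP
  have h10 : (fun j => res M (X.basicOpen_le P.det) (res M hW₀ (c j))) =
      fun j => res M ((X.basicOpen_le P.det).trans hW₀) (c j) := by
    funext j
    exact res_res M _ _ _
  rwa [h10] at h9

/-- A generating family of a module locally free of rank `r` contains a local basis near each point. -/
theorem exists_sub_near {r n : ℕ} (hM : FlatMod.IsFinLocFreeOfRank r M) (c : Fin n → Sec M W) (hc : IsGen c)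
    (x : X) (hx : x ∈ W) :
    ∃ (V : X.Opens) (hV : V ≤ W) (σ : Fin r → Fin n), x ∈ V ∧ Function.Injective σ ∧
      IsLocBasis (fun j => res M hV (c (σ j))) := by
  obtain ⟨W₀, hW₀, b, hxW₀, hb⟩ := exists_locBasis_near hM x hx
  obtain ⟨P, hP⟩ := exists_isMat hb (fun j => res M hW₀ (c j))
  -- the germs generate
  have hg : ∀ i, ∃ R : Fin n → X.presheaf.stalk x, ger M x hxW₀ (b i) = ∑ j, R j • ger M x hx (c j) := by
    intro i
    have h1 : ger M x hxW₀ (b i) ∈ Submodule.span (X.presheaf.stalk x) (Set.range fun k => ger M x hx (c k)) := by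
      rw [hc x hx]; trivial
    rw [Submodule.mem_span_range_iff_exists_fun] at h1
    obtain ⟨R, hR⟩ := h1
    exact ⟨R, hR.symm⟩
  choose R hR using hg
  let P' : Matrix (Fin r) (Fin n) (X.presheaf.stalk x) := P.map (gerO x hxW₀)
  have hP' : ∀ j, ger M x hx (c j) = ∑ i, P' i j • ger M x hxW₀ (b i) := by
    intro j
    have h2 : ger M x hx (c j) = ger M x hxW₀ (res M hW₀ (c j)) := (ger_res M hW₀ x hxW₀ (c j)).symm
    have h3 : res M hW₀ (c j) = ∑ i, P i j • b i := hP j
    rw [h2, h3, ger_sum]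
    refine Finset.sum_congr rfl fun i _ => ?_
    rw [ger_smul]
    rfl
  have hPR : P' * (Matrix.of fun j i => R i j) = 1 := by
    ext k i
    have h4 := hR i
    simp only [hP', Finset.smul_sum, smul_smul] at h4
    rw [Finset.sum_comm] at h4
    simp only [← Finset.sum_smul] at h4
    have h5 : ger M x hxW₀ (b i) = ∑ k, (if k = i then (1 : X.presheaf.stalk x) else 0) • ger M x hxW₀ (b k) := by
      simp
    have h6 : ∑ k, ((∑ j, R i j * P' k j) - (if k = i then (1 : X.presheaf.stalk x) else 0)) •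
        ger M x hxW₀ (b k) = 0 := by
      simp only [sub_smul, Finset.sum_sub_distrib]
      rw [← h4, ← h5, sub_self]
    have h7 := ger_injective hb x hxW₀ _ h6 k
    rw [sub_eq_zero] at h7
    rw [Matrix.mul_apply, Matrix.one_apply, ← h7]
    refine Finset.sum_congr rfl fun j _ => ?_
    rw [Matrix.of_apply, mul_comm]
  obtain ⟨σ, hσ, hu⟩ := exists_minor P' _ hPR
  have h8 : (P'.submatrix id σ).det = gerO x hxW₀ (P.submatrix id σ).det := by
    have := RingHom.map_det (X.presheaf.germ W₀ x hxW₀).hom (P.submatrix id σ)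
    exact this.symm
  rw [h8] at hu
  have h9 : x ∈ X.basicOpen (P.submatrix id σ).det := (Scheme.mem_basicOpen _ _ _ hxW₀).2 hu
  have h10 : IsMat b (fun j => res M hW₀ (c (σ j))) (P.submatrix id σ) := fun j => hP (σ j)
  refine ⟨X.basicOpen (P.submatrix id σ).det, (X.basicOpen_le _).trans hW₀, σ, h9, hσ, ?_⟩
  have h11 := isLocBasis_basicOpen hb h10
  have h12 : (fun j => res M (X.basicOpen_le (P.submatrix id σ).det) (res M hW₀ (c (σ j)))) =
      fun j => res M ((X.basicOpen_le (P.submatrix id σ).det).trans hW₀) (c (σ j)) := by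
    funext j
    exact res_res M _ _ _
  rwa [h12] at h11

end K652.NearBasis
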