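import Groth.Agent.Fga.RingFunRep
import Groth.Prelude.Def_GrassD

/-!
# Yoneda for schemes over `Spec R` through their points in `R`-algebras

* `exists_hom`: a natural transformation of functors of points on `R`-algebras comes from a morphism over `Spec R`;
* `hom_ext`: morphisms over `Spec R` agreeing on points of `R`-algebras are equal;
* `exists_iso`: naturally bijective functors of points come from an isomorphism.
-/

set_option autoImplicit false
universe u
open CategoryTheory CategoryTheory.Limits AlgebraicGeometry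

namespace K652.AffYoneda

open Groth.Agent.Fga.RingFunBasic Groth.Agent.Fga.RingFunRep Grass

/-- The functor of affine points of a scheme. -/
noncomputable def pts (Y : Scheme.{u}) : CommRingCat.{u} ⥤ Type u where
  obj B := Spec B ⟶ Y
  map φ := ↾ fun t => Spec.map φ ≫ t
  map_id B := by
    ext t
    change Spec.map (𝟙 B) ≫ t = t
    rw [Spec.map_id, Category.id_comp]
  map_comp φ ψ := by
    ext t
    change Spec.map (φ ≫ ψ) ≫ t = Spec.map ψ ≫ Spec.map φ ≫ t
    rw [Spec.map_comp, Category.assoc]

/-- A scheme represents its functor of points. -/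
noncomputable def repPts (Y : Scheme.{u}) : Rep (pts Y) Y where
  e _ := Equiv.refl _
  nat _ _ := rfl

variable {R : Type u} [CommRing R]

/-- The `R`-algebra attached to a ring homomorphism `R ⟶ B`. -/
noncomputable def algOf {B : CommRingCat.{u}} (φ : CommRingCat.of R ⟶ B) : CommAlgCat.{u} R :=
  @CommAlgCat.of R _ B _ φ.hom.toAlgebra

theorem algebraMap_algOf {B : CommRingCat.{u}} (φ : CommRingCat.of R ⟶ B) :
    CommRingCat.ofHom (algebraMap R (algOf φ)) = φ := rfl

/-- Ring homomorphisms over `R` as morphisms of algebras. -/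
noncomputable def algMap {B C : CommRingCat.{u}} (φ : CommRingCat.of R ⟶ B) (ψ : CommRingCat.of R ⟶ C)
    (f : B ⟶ C) (h : φ ≫ f = ψ) : algOf φ ⟶ algOf ψ :=
  @CommAlgCat.ofHom R _ B C _ φ.hom.toAlgebra _ ψ.hom.toAlgebra
    (@AlgHom.mk R B C _ _ _ φ.hom.toAlgebra ψ.hom.toAlgebra f.hom fun r => congr($(h).hom r))

theorem algMap_toRingHom {B C : CommRingCat.{u}} (φ : CommRingCat.of R ⟶ B) (ψ : CommRingCat.of R ⟶ C)
    (f : B ⟶ C) (h : φ ≫ f = ψ) : CommRingCat.ofHom (algMap φ ψ f h).hom.toRingHom = f := rfl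

/-- The comparison of an `R`-algebra with the algebra attached to its structure map. -/
noncomputable def toAlgOf (A : CommAlgCat.{u} R) : A ⟶ algOf (CommRingCat.ofHom (algebraMap R A)) :=
  @CommAlgCat.ofHom R _ A A _ _ _ ((CommRingCat.ofHom (algebraMap R A)).hom.toAlgebra)
    (@AlgHom.mk R A A _ _ _ _ ((CommRingCat.ofHom (algebraMap R A)).hom.toAlgebra) (RingHom.id A) fun _ => rfl)

theorem toAlgOf_toRingHom (A : CommAlgCat.{u} R) :
    CommRingCat.ofHom (toAlgOf A).hom.toRingHom = 𝟙 (CommRingCat.of A) := rfl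

/-- The structure map of a point. -/
noncomputable def str (X : Over (Spec (CommRingCat.of R))) {B : CommRingCat.{u}} (t : Spec B ⟶ X.left) :
    CommRingCat.of R ⟶ B := Spec.preimage (t ≫ X.hom)

@[simp] theorem map_str (X : Over (Spec (CommRingCat.of R))) {B : CommRingCat.{u}} (t : Spec B ⟶ X.left) :
    Spec.map (str X t) = t ≫ X.hom := Spec.map_preimage _

/-- A point with values in a ring as a point with values in an `R`-algebra. -/
noncomputable def ptOf (X : Over (Spec (CommRingCat.of R))) {B : CommRingCat.{u}} (t : Spec B ⟶ X.left) :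
    specOver R (algOf (str X t)) ⟶ X :=
  Over.homMk t (by
    exact (map_str X t).symm)

@[simp] theorem ptOf_left (X : Over (Spec (CommRingCat.of R))) {B : CommRingCat.{u}} (t : Spec B ⟶ X.left) :
    (ptOf X t).left = t := rfl

variable {X Y Z : Over (Spec (CommRingCat.of R))}

/-- Naturality of a family of maps on points. -/
def IsNat (τ : ∀ A : CommAlgCat.{u} R, (specOver R A ⟶ X) → (specOver R A ⟶ Y)) : Prop :=
  ∀ (A B : CommAlgCat.{u} R) (φ : A ⟶ B) (g : specOver R A ⟶ X) (g' : specOver R B ⟶ X),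
    g'.left = Spec.map (CommRingCat.ofHom φ.hom.toRingHom) ≫ g.left →
      (τ B g').left = Spec.map (CommRingCat.ofHom φ.hom.toRingHom) ≫ (τ A g).left

theorem str_comp {B C : CommRingCat.{u}} (φ : B ⟶ C) (t : Spec B ⟶ X.left) :
    str X t ≫ φ = str X (Spec.map φ ≫ t) := by
  apply Spec.map_injective
  simp

/-- **Yoneda on affine points**, existence. -/
theorem exists_hom {τ : ∀ A : CommAlgCat.{u} R, (specOver R A ⟶ X) → (specOver R A ⟶ Y)} (hτ : IsNat τ) :
    ∃ f : X ⟶ Y, ∀ (A : CommAlgCat.{u} R) (g : specOver R A ⟶ X), g ≫ f = τ A g := by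
  let x : Fam (pts Y.left) X.left :=
    { q := fun {B} t => (τ _ (ptOf X t)).left
      nat := by
        intro B C φ t
        exact hτ _ _ (algMap (str X t) (str X (Spec.map φ ≫ t)) φ (str_comp φ t)) (ptOf X t)
          (ptOf X (Spec.map φ ≫ t)) rfl }
  obtain ⟨f, hf⟩ := (repPts Y.left).fam_surjective x
  have hf' : ∀ {B : CommRingCat.{u}} (t : Spec B ⟶ X.left), t ≫ f = (τ _ (ptOf X t)).left := by
    intro B t
    exact congrArg (fun z => Fam.q z t) hf
  refine ⟨Over.homMk f ?_, ?_⟩
  · apply Scheme.Cover.hom_ext X.left.affineOpenCover.openCover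
    intro k
    change X.left.affineOpenCover.f k ≫ _ ≫ _ = X.left.affineOpenCover.f k ≫ _
    rw [← Category.assoc, hf']
    have h1 := Over.w (τ _ (ptOf X (X.left.affineOpenCover.f k)))
    refine h1.trans ?_
    exact map_str X (X.left.affineOpenCover.f k)
  · intro A g
    ext1
    change g.left ≫ f = _
    rw [hf' (B := CommRingCat.of A) g.left]
    have hstr : str X (B := CommRingCat.of A) g.left = CommRingCat.ofHom (algebraMap R A) := by
      apply Spec.map_injective
      rw [map_str]
      exact Over.w g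
    have key : ∀ (φ : CommRingCat.of R ⟶ CommRingCat.of A) (hφ : φ = CommRingCat.ofHom (algebraMap R A))
        (p : specOver R (algOf φ) ⟶ X) (hp : p.left = g.left), (τ _ p).left = (τ A g).left := by
      intro φ hφ p hp
      subst hφ
      have e0 : Spec.map (CommRingCat.ofHom (toAlgOf A).hom.toRingHom) = 𝟙 (Spec (CommRingCat.of A)) :=
        Spec.map_id _
      have := hτ A _ (toAlgOf A) g p (hp.trans ((Category.id_comp _).symm.trans
        (congrArg (fun z => z ≫ g.left) e0.symm)))
      exact this.trans ((congrArg (fun z => z ≫ (τ A g).left) e0).trans (Category.id_comp _))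
    exact key _ hstr _ rfl

/-- **Yoneda on affine points**, uniqueness. -/
theorem hom_ext {f f' : X ⟶ Y} (h : ∀ (A : CommAlgCat.{u} R) (g : specOver R A ⟶ X), g ≫ f = g ≫ f') : f = f' := by
  ext1
  apply Scheme.Cover.hom_ext X.left.affineOpenCover.openCover
  intro k
  exact congrArg CommaMorphism.left (h _ (ptOf X (X.left.affineOpenCover.f k)))

theorem isNat_comp {τ : ∀ A : CommAlgCat.{u} R, (specOver R A ⟶ X) → (specOver R A ⟶ Y)} (hτ : IsNat τ)
    {σ : ∀ A : CommAlgCat.{u} R, (specOver R A ⟶ Y) → (specOver R A ⟶ Z)} (hσ : IsNat σ) :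
    IsNat fun A g => σ A (τ A g) := by
  intro A B φ g g' h
  exact hσ A B φ _ _ (hτ A B φ g g' h)

theorem isNat_symm {τ : ∀ A : CommAlgCat.{u} R, (specOver R A ⟶ X) ≃ (specOver R A ⟶ Y)}
    (hτ : IsNat fun A => τ A) : IsNat fun A => (τ A).symm := by
  intro A B φ g g' h
  -- the base change of the point of `X`
  let p : specOver R B ⟶ X := Over.homMk (Spec.map (CommRingCat.ofHom φ.hom.toRingHom) ≫ ((τ A).symm g).left) (by
    change (Spec.map (CommRingCat.ofHom φ.hom.toRingHom) ≫ ((τ A).symm g).left) ≫ X.hom =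
      Spec.map (CommRingCat.ofHom (algebraMap R B))
    rw [Category.assoc, Over.w]
    change Spec.map (CommRingCat.ofHom φ.hom.toRingHom) ≫ Spec.map (CommRingCat.ofHom (algebraMap R A)) = _
    rw [← Spec.map_comp]
    congr 1
    ext r
    exact φ.hom.commutes r)
  have h1 := hτ A B φ ((τ A).symm g) p rfl
  have h2 : τ B p = g' := by
    ext1
    rw [h1, h]
    simp
  rw [← h2]
  simp only [Equiv.symm_apply_apply]
  rfl

/-- **Yoneda on affine points**, isomorphisms. -/
theorem exists_iso {τ : ∀ A : CommAlgCat.{u} R, (specOver R A ⟶ X) ≃ (specOver R A ⟶ Y)}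
    (hτ : IsNat fun A => τ A) :
    ∃ i : X ≅ Y, ∀ (A : CommAlgCat.{u} R) (g : specOver R A ⟶ X), g ≫ i.hom = τ A g := by
  obtain ⟨f, hf⟩ := exists_hom hτ
  obtain ⟨f', hf'⟩ := exists_hom (isNat_symm hτ)
  refine ⟨⟨f, f', ?_, ?_⟩, hf⟩
  · apply hom_ext
    intro A g
    rw [← Category.assoc, hf, hf', Equiv.symm_apply_apply, Category.comp_id]
  · apply hom_ext
    intro A g
    rw [← Category.assoc, hf', hf, Equiv.apply_symm_apply, Category.comp_id]

/-- Base change of a point along a morphism of algebras. -/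
noncomputable def bcPt {A B : CommAlgCat.{u} R} (φ : A ⟶ B) : specOver R B ⟶ specOver R A :=
  Over.homMk (Spec.map (CommRingCat.ofHom φ.hom.toRingHom)) (by
    change Spec.map (CommRingCat.ofHom φ.hom.toRingHom) ≫ Spec.map (CommRingCat.ofHom (algebraMap R A)) =
      Spec.map (CommRingCat.ofHom (algebraMap R B))
    rw [← Spec.map_comp]
    congr 1
    ext r
    exact φ.hom.commutes r)

@[simp] theorem bcPt_left {A B : CommAlgCat.{u} R} (φ : A ⟶ B) :
    (bcPt φ).left = Spec.map (CommRingCat.ofHom φ.hom.toRingHom) := rfl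

end K652.AffYoneda
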