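import Groth.Agent.Krr.H490.LocBasisPull
import Mathlib.LinearAlgebra.Matrix.NonsingularInverse
import Mathlib.LinearAlgebra.Dimension.Constructions

/-!
# Matrices between families of sections; families of sections which generate

* `isLocBasis_of_isUnit_det`, `isUnit_det`: a family with matrix `P` with respect to a local basis is a local basis iff
  `det P` is a unit;
* `IsGen`: a family of sections generates all stalks; stable under epimorphisms, pull-back;
* `exists_near_of_pull`: if the pull-back of a family is a local basis, the family is a local basis near the image;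
* `exists_sub_near`: a generating family of a module locally free of rank `r` contains a local basis near each point.
-/

set_option autoImplicit false
universe u

open CategoryTheory CategoryTheory.Limits AlgebraicGeometry Opposite TopologicalSpace

namespace K652.BasisCrit

open Groth.Agent.Sga67.Sec Groth.Agent.Sga67.LocBasis Groth.Agent.Sga67.LocBasisStalk
  Groth.Agent.Krr.H490.LocBasisPull

section Alg

/-- Over a local ring, a matrix with a right inverse has an invertible maximal minor. -/
theorem exists_minor {A : Type*} [CommRing A] [IsLocalRing A] {r n : ℕ} (P : Matrix (Fin r) (Fin n) A)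
    (R : Matrix (Fin n) (Fin r) A) (h : P * R = 1) :
    ∃ σ : Fin r → Fin n, Function.Injective σ ∧ IsUnit (P.submatrix id σ).det := by
  classical
  let K := IsLocalRing.ResidueField A
  let ρ := IsLocalRing.residue A
  let P' : Matrix (Fin r) (Fin n) K := P.map ρ
  let R' : Matrix (Fin n) (Fin r) K := R.map ρ
  have h' : P' * R' = 1 := by
    change P.map ρ * R.map ρ = 1
    rw [← Matrix.map_mul, h, Matrix.map_one _ (map_zero _) (map_one _)]
  have hspan : Submodule.span K (Set.range P'.col) = ⊤ := by
    rw [eq_top_iff]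
    intro v _
    have h1 : v = P'.mulVec (R'.mulVec v) := by rw [Matrix.mulVec_mulVec, h', Matrix.one_mulVec]
    have h2 : P'.mulVec (R'.mulVec v) = ∑ j, (R'.mulVec v) j • P'.col j := by
      ext i
      simp [Matrix.mulVec, dotProduct, mul_comm]
    rw [h1, h2]
    exact Submodule.sum_mem _ fun j _ => Submodule.smul_mem _ _ (Submodule.subset_span ⟨j, rfl⟩)
  obtain ⟨f, hf, -, hli⟩ := Submodule.exists_fun_fin_finrank_span_eq K (Set.range P'.col)
  have hr : Module.finrank K (Submodule.span K (Set.range P'.col)) = r := by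
    rw [hspan, finrank_top, Module.finrank_fin_fun]
  choose τ hτ using hf
  let σ : Fin r → Fin n := fun i => τ (Fin.cast hr.symm i)
  have hli' : LinearIndependent K (fun i : Fin r => P'.col (σ i)) := by
    have h3 : (fun i : Fin r => P'.col (σ i)) = f ∘ (Fin.cast hr.symm) := by
      funext i
      exact hτ _
    rw [h3]
    exact hli.comp _ (Fin.cast_injective _)
  refine ⟨σ, fun i j hij => hli'.injective (by rw [hij]), ?_⟩
  have h4 : IsUnit (P'.submatrix id σ) := Matrix.linearIndependent_cols_iff_isUnit.1 hli'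
  rw [Matrix.isUnit_iff_isUnit_det] at h4
  have h5 : (P'.submatrix id σ).det = ρ (P.submatrix id σ).det := by
    rw [RingHom.map_det]
    rfl
  rw [h5] at h4
  exact (IsLocalRing.residue_ne_zero_iff_isUnit _).1 h4.ne_zero

end Alg

variable {X Y : Scheme.{u}} {M : X.Modules} {W : X.Opens}

/-- The matrix relation `c_j = ∑ P_ij b_i`. -/
def IsMat {κ κ' : Type*} [Fintype κ] (b : κ → Sec M W) (c : κ' → Sec M W) (P : Matrix κ κ' Γ(X, W)) : Prop :=
  ∀ j, c j = ∑ i, P i j • b i

theorem IsMat.restrict {κ κ' : Type*} [Fintype κ] {b : κ → Sec M W} {c : κ' → Sec M W} {P : Matrix κ κ' Γ(X, W)}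
    (h : IsMat b c P) {V : X.Opens} (hV : V ≤ W) :
    IsMat (fun i => res M hV (b i)) (fun j => res M hV (c j)) (P.map (resO X hV)) := by
  intro j
  have h1 : res M hV (c j) = res M hV (∑ i, P i j • b i) := by rw [← h j]
  refine h1.trans ?_
  rw [map_sum]
  refine Finset.sum_congr rfl fun i _ => ?_
  rw [res_smul]
  rfl

theorem comb_isMat {κ κ' : Type*} [Fintype κ] [Fintype κ'] {b : κ → Sec M W} {c : κ' → Sec M W}
    {P : Matrix κ κ' Γ(X, W)} (h : IsMat b c P) {V : X.Opens} (hV : V ≤ W) (a : κ' → Γ(X, V)) :
    comb c hV a = comb b hV ((P.map (resO X hV)).mulVec a) := by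
  rw [comb_apply, comb_apply]
  have h1 : ∀ j, res M hV (c j) = ∑ i, (P.map (resO X hV)) i j • res M hV (b i) := h.restrict hV
  simp only [h1, Finset.smul_sum, Matrix.mulVec, dotProduct, Finset.sum_smul, smul_smul]
  rw [Finset.sum_comm]
  refine Finset.sum_congr rfl fun i _ => Finset.sum_congr rfl fun j _ => ?_
  rw [mul_comm]

theorem isLocBasis_of_isUnit_det {κ : Type*} [Fintype κ] [DecidableEq κ] {b : κ → Sec M W} {c : κ → Sec M W}
    {P : Matrix κ κ Γ(X, W)} (hb : IsLocBasis b) (h : IsMat b c P) (hP : IsUnit P.det) : IsLocBasis c := by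
  intro V hV
  have h1 : (comb c hV : (κ → Γ(X, V)) → Sec M V) = comb b hV ∘ (P.map (resO X hV)).mulVec :=
    funext fun a => comb_isMat h hV a
  rw [h1]
  refine (hb V hV).comp ?_
  have h2 : IsUnit (P.map (resO X hV)) := by
    rw [Matrix.isUnit_iff_isUnit_det]
    have := hP.map (resO X hV)
    rwa [RingHom.map_det] at this
  exact ⟨Matrix.mulVec_injective_of_isUnit h2, Matrix.mulVec_surjective_iff_isUnit.2 h2⟩

theorem isUnit_det {κ : Type*} [Fintype κ] [DecidableEq κ] {b : κ → Sec M W} {c : κ → Sec M W}
    {P : Matrix κ κ Γ(X, W)} (hb : IsLocBasis b) (h : IsMat b c P) (hc : IsLocBasis c) : IsUnit P.det := by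
  rw [← Matrix.isUnit_iff_isUnit_det, ← Matrix.mulVec_surjective_iff_isUnit]
  have h1 : (comb c le_rfl : (κ → Γ(X, W)) → Sec M W) = comb b le_rfl ∘ P.mulVec := by
    funext a
    have h2 : P.map (resO X (le_refl W)) = P := by
      ext i j
      exact resO_self _ _
    rw [comb_isMat h le_rfl, h2]
    rfl
  have h3 := (hc W le_rfl).2
  rw [h1] at h3
  intro y
  obtain ⟨x, hx⟩ := h3 (comb b le_rfl y)
  exact ⟨x, (hb W le_rfl).1 hx⟩

theorem exists_isMat {κ κ' : Type*} [Fintype κ] {b : κ → Sec M W} (hb : IsLocBasis b) (c : κ' → Sec M W) :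
    ∃ P : Matrix κ κ' Γ(X, W), IsMat b c P := by
  choose a ha using fun j => (hb W le_rfl).2 (c j)
  refine ⟨Matrix.of fun i j => a j i, fun j => ?_⟩
  rw [← ha j, comb_apply]
  refine Finset.sum_congr rfl fun i _ => ?_
  rw [res_self]
  rfl

theorem IsMat.unique {κ κ' : Type*} [Fintype κ] {b : κ → Sec M W} (hb : IsLocBasis b) {c : κ' → Sec M W}
    {P P' : Matrix κ κ' Γ(X, W)} (h : IsMat b c P) (h' : IsMat b c P') : P = P' := by
  ext i j
  have h1 : comb b (le_refl W) (fun i => P i j) = comb b (le_refl W) (fun i => P' i j) := by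
    rw [comb_apply, comb_apply]
    simp only [res_self]
    exact (h j).symm.trans (h' j)
  exact congrFun ((hb W le_rfl).1 h1) i

section Gen

/-- A family of sections which generates all stalks. -/
def IsGen {κ : Type*} (s : κ → Sec M W) : Prop :=
  ∀ (x : X) (hx : x ∈ W), Submodule.span (X.presheaf.stalk x) (Set.range fun k => ger M x hx (s k)) = ⊤

theorem IsGen.restrict {κ : Type*} {s : κ → Sec M W} (hs : IsGen s) {V : X.Opens} (hV : V ≤ W) :
    IsGen (fun k => res M hV (s k)) := by
  intro x hx
  simp only [ger_res]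
  exact hs x (hV hx)

theorem isGen_of_isLocBasis {κ : Type*} [Fintype κ] {b : κ → Sec M W} (hb : IsLocBasis b) : IsGen b := by
  intro x hx
  rw [eq_top_iff]
  intro t _
  obtain ⟨a, rfl⟩ := ger_surjective hb x hx t
  exact Submodule.sum_mem _ fun k _ => Submodule.smul_mem _ _ (Submodule.subset_span ⟨k, rfl⟩)

theorem IsGen.map {κ : Type*} {N : X.Modules} (f : M ⟶ N) [Epi f] {s : κ → Sec M W} (hs : IsGen s) :
    IsGen (fun k => appS f W (s k)) := by
  intro x hx
  rw [eq_top_iff]
  intro t _
  obtain ⟨U, hxU, n, rfl⟩ := exists_ger N x t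
  obtain ⟨V, hV, hxV, m, hm⟩ := locally_surjective_of_epi f n x hxU
  have h1 : ger N x hxU n = Groth.Agent.CycB.StalkExact.stalkLin f x (ger M x hxV m) := by
    rw [stalkLin_ger, hm, ger_res]
  rw [h1]
  have h2 : ger M x hxV m ∈ Submodule.span (X.presheaf.stalk x) (Set.range fun k => ger M x hx (s k)) := by
    rw [hs x hx]; trivial
  have h3 : Groth.Agent.CycB.StalkExact.stalkLin f x (ger M x hxV m) ∈
      (Submodule.span (X.presheaf.stalk x) (Set.range fun k => ger M x hx (s k))).map
        (Groth.Agent.CycB.StalkExact.stalkLin f x) := Submodule.mem_map_of_mem h2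
  rw [Submodule.map_span, ← Set.range_comp] at h3
  have h4 : (Groth.Agent.CycB.StalkExact.stalkLin f x ∘ fun k => ger M x hx (s k)) =
      fun k => ger N x hx (appS f W (s k)) := by
    funext k
    exact stalkLin_ger f x hx (s k)
  rwa [h4] at h3

theorem IsGen.psec {κ : Type*} (g : Y ⟶ X) {V : Y.Opens} (e : V ≤ g ⁻¹ᵁ W) {s : κ → Sec M W} (hs : IsGen s) :
    IsGen (fun k => psec g M e (s k)) := by
  intro y hy
  let := Groth.Agent.Fdesc.PullbackStalk.stalkAlg g y
  rw [eq_top_iff]
  intro t ht
  clear ht
  obtain ⟨z, rfl⟩ := (Groth.Agent.Fdesc.PullbackStalk.stalkPullbackEquiv g M y).surjective t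
  induction z using TensorProduct.induction_on with
  | zero => rw [map_zero]; exact zero_mem _
  | add x z hx hz => rw [map_add]; exact add_mem hx hz
  | tmul a m =>
    have hm : m ∈ Submodule.span (X.presheaf.stalk (g y)) (Set.range fun k => ger M (g y) (e hy) (s k)) := by
      rw [hs (g y) (e hy)]; trivial
    induction hm using Submodule.span_induction generalizing a with
    | mem m hm =>
      obtain ⟨k, rfl⟩ := hm
      rw [Groth.Agent.Fdesc.PullbackStalk.stalkPullbackEquiv_tmul]
      refine Submodule.smul_mem _ _ (Submodule.subset_span ⟨k, ?_⟩)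
      exact ger_psec g M e y hy (s k)
    | zero => rw [TensorProduct.tmul_zero, map_zero]; exact zero_mem _
    | add x z _ _ hx hz => rw [TensorProduct.tmul_add, map_add]; exact add_mem (hx a) (hz a)
    | smul c x _ hx => rw [TensorProduct.tmul_smul, TensorProduct.smul_tmul']; exact hx _

end Gen

end K652.BasisCrit
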