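import Groth.Agent.Grass.K652.ChartAff
import Groth.Agent.Grass.K652.PluckerN
import Groth.Agent.Grass.K652.BaseR

/-!
# The base change of the Grassmannian to a scheme `S`: charts, smoothness, properness

`G` represents `grFun (Fin n) d` over `ℤ`; `GS G S = G × S`.
-/

set_option autoImplicit false
universe u
open CategoryTheory CategoryTheory.Limits AlgebraicGeometry

namespace K652.CoverS

open Groth.Agent.Fga.GrassBasic Groth.Agent.Fga.GrassChart Groth.Agent.Fga.Grass
  Groth.Agent.Fga.RingFunBasic Groth.Agent.Fga.RingFunRep Groth.Agent.Fga.Plucker489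
  K652.ChartAff K652.PluckerN K652.BaseR

/-- The product with `S`. -/
noncomputable abbrev GS (G S : Scheme.{u}) : Scheme.{u} :=
  pullback (specULiftZIsTerminal.from G) (specULiftZIsTerminal.from S)

/-- The structure morphism. -/
noncomputable abbrev GS.p (G S : Scheme.{u}) : GS G S ⟶ S :=
  pullback.snd (specULiftZIsTerminal.from G) (specULiftZIsTerminal.from S)

/-- Functoriality in the first variable. -/
noncomputable def GS.map {G G' : Scheme.{u}} (c : G ⟶ G') (S : Scheme.{u}) : GS G S ⟶ GS G' S :=
  pullback.map _ _ _ _ c (𝟙 _) (𝟙 _) (specULiftZIsTerminal.hom_ext _ _) (specULiftZIsTerminal.hom_ext _ _)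

theorem GS.map_p {G G' : Scheme.{u}} (c : G ⟶ G') (S : Scheme.{u}) : GS.map c S ≫ GS.p G' S = GS.p G S :=
  (pullback.lift_snd _ _ _).trans (Category.comp_id _)

theorem GS.map_fst {G G' : Scheme.{u}} (c : G ⟶ G') (S : Scheme.{u}) :
    GS.map c S ≫ pullback.fst _ _ = pullback.fst _ _ ≫ c :=
  pullback.lift_fst _ _ _

theorem GS.isPullback_map {G G' : Scheme.{u}} (c : G ⟶ G') (S : Scheme.{u}) :
    IsPullback (pullback.fst (specULiftZIsTerminal.from G) (specULiftZIsTerminal.from S)) (GS.map c S) c
      (pullback.fst (specULiftZIsTerminal.from G') (specULiftZIsTerminal.from S)) := by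
  have h1 := (IsPullback.of_hasPullback (specULiftZIsTerminal.from G') (specULiftZIsTerminal.from S)).flip
  have h2 := (IsPullback.of_hasPullback (specULiftZIsTerminal.from G) (specULiftZIsTerminal.from S)).flip
  have h3 : c ≫ specULiftZIsTerminal.from G' = specULiftZIsTerminal.from G := specULiftZIsTerminal.hom_ext _ _
  have h4 : GS.map c S ≫ pullback.snd (specULiftZIsTerminal.from G') (specULiftZIsTerminal.from S) =
    pullback.snd (specULiftZIsTerminal.from G) (specULiftZIsTerminal.from S) := GS.map_p c S
  rw [← h3] at h2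
  refine (IsPullback.of_right ?_ (GS.map_fst c S) h1).flip
  have h5 : IsPullback (pullback.snd (specULiftZIsTerminal.from G) (specULiftZIsTerminal.from S))
      (pullback.fst (specULiftZIsTerminal.from G) (specULiftZIsTerminal.from S)) (specULiftZIsTerminal.from S)
      (c ≫ specULiftZIsTerminal.from G') := by
    rw [h3]
    exact (IsPullback.of_hasPullback (specULiftZIsTerminal.from G) (specULiftZIsTerminal.from S)).flip
  rw [← h4] at h5
  exact h5

instance isOpenImmersion_map {G G' : Scheme.{u}} (c : G ⟶ G') [IsOpenImmersion c] (S : Scheme.{u}) : IsOpenImmersion (GS.map c S) :=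
  MorphismProperty.of_isPullback (P := @IsOpenImmersion) (GS.isPullback_map c S) inferInstance

instance isClosedImmersion_map {G G' : Scheme.{u}} (c : G ⟶ G') [IsClosedImmersion c] (S : Scheme.{u}) : IsClosedImmersion (GS.map c S) :=
  MorphismProperty.of_isPullback (P := @IsClosedImmersion) (GS.isPullback_map c S) inferInstance

instance isIso_map {G G' : Scheme.{u}} (c : G ⟶ G') [IsIso c] (S : Scheme.{u}) : IsIso (GS.map c S) :=
  MorphismProperty.of_isPullback (P := MorphismProperty.isomorphisms Scheme.{u}) (GS.isPullback_map c S)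
    (show IsIso c from inferInstance)

theorem GS.mem_range_map {G G' : Scheme.{u}} (c : G ⟶ G') (S : Scheme.{u}) (p : GS G' S)
    (hp : (pullback.fst (specULiftZIsTerminal.from G') (specULiftZIsTerminal.from S)) p ∈ Set.range c) :
    p ∈ Set.range (GS.map c S) := by
  obtain ⟨q, hq⟩ := hp
  obtain ⟨z, -, hz⟩ := Scheme.exists_preimage_of_isPullback (GS.isPullback_map c S) q p hq
  exact ⟨z, hz⟩

section

variable {n d : ℕ} {G : Scheme.{u}} (r : Rep (grFun.{u} (Fin n) d) G)

/-- The charts of `G × S`. -/
noncomputable abbrev chS (e : Fin d → Fin n) (S : Scheme.{u}) : GS (Spec (chartRing.{u} e)) S ⟶ GS G S :=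
  GS.map (chart r e) S

theorem chS_cover (hcov : ∀ p : G, ∃ e : Fin d → Fin n, p ∈ Set.range (chart r e)) (S : Scheme.{u}) (p : GS G S) :
    ∃ e : Fin d → Fin n, Function.Injective e ∧ p ∈ Set.range (chS r e S) := by
  obtain ⟨e, x, hx⟩ := hcov ((pullback.fst (specULiftZIsTerminal.from G) (specULiftZIsTerminal.from S)) p)
  exact ⟨e, injective_of_point x, GS.mem_range_map _ S p ⟨x, hx⟩⟩

/-- The charts are affine spaces. -/
theorem chS_iso {e : Fin d → Fin n} (he : Function.Injective e) (S : Scheme.{u}) :
    (chartPullIso he S).inv ≫ chS r e S ≫ GS.p G S = 𝔸(ULift.{u} (Fin (d * (n - d))); S) ↘ S := by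
  rw [GS.map_p, Iso.inv_comp_eq]
  exact (chartPullIso_over he S).symm

theorem smooth_p (hc : ∀ e : Fin d → Fin n, IsOpenImmersion (chart r e))
    (hcov : ∀ p : G, ∃ e : Fin d → Fin n, p ∈ Set.range (chart r e)) (S : Scheme.{u}) :
    SmoothOfRelativeDimension (d * (n - d)) (GS.p G S) := by
  have key : ∀ (e : Fin d → Fin n) (he : Function.Injective e),
      SmoothOfRelativeDimension (d * (n - d)) (chS r e S ≫ GS.p G S) := by
    intro e he
    have h := smooth_affineSpace.{u} (d * (n - d)) S
    rw [← chS_iso r he S] at h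
    rwa [MorphismProperty.cancel_left_of_respectsIso (P := @SmoothOfRelativeDimension (d * (n - d)))] at h
  have hc' : ∀ e : {e : Fin d → Fin n // Function.Injective e}, IsOpenImmersion (chS r e.1 S) := by
    intro e
    have := hc e.1
    infer_instance
  refine (IsZariskiLocalAtSource.iff_of_iSup_eq_top (P := @SmoothOfRelativeDimension (d * (n - d)))
    (fun e : {e : Fin d → Fin n // Function.Injective e} => (chS r e.1 S).opensRange) ?_).2 ?_
  · rw [eq_top_iff]
    intro p _
    obtain ⟨e, he, hp⟩ := chS_cover r hcov S p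
    exact TopologicalSpace.Opens.mem_iSup.2 ⟨⟨e, he⟩, hp⟩
  · intro e
    have h2 := key e.1 e.2
    rw [← Scheme.Hom.isoOpensRange_hom_ι (chS r e.1 S)] at h2
    rw [Category.assoc] at h2
    rwa [MorphismProperty.cancel_left_of_respectsIso (P := @SmoothOfRelativeDimension (d * (n - d)))] at h2

end

end K652.CoverS
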