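import Groth.Agent.Grass.K652.GrProper
import Groth.Prelude.Def_FGA
import Groth.Agent.Fga.QuotPull

/-!
# Grassmannians in terms of `FGA.ET` and `FGA.quotPull`
-/

set_option autoImplicit false
set_option backward.isDefEq.respectTransparency false

universe u

open CategoryTheory CategoryTheory.Limits AlgebraicGeometry Opposite TopologicalSpace

namespace K652.FgaGrass

open Groth.Agent.Krr.H490.NrmSub Groth.Agent.Krr.H490.NrmSub2
open Groth.Agent.Fga.QuotPull
open Groth.Agent.Fga.SubPull (subPull pq cong CompatIso)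
open K652.GrFun K652.GrCharts

variable {S : Scheme.{u}} (V : S.Modules) (r : ℕ)

/-- The scheme `S ×_S T` over `S`. -/
noncomputable abbrev XTo (T : Over S) : Over S := Over.mk (pullback.fst (𝟙 S) T.hom)

/-- `S ×_S T ≅ T`. -/
noncomputable def pr (T : Over S) : XTo T ≅ T :=
  Over.isoMk (asIso (pullback.snd (𝟙 S) T.hom)) (by
    change pullback.snd (𝟙 S) T.hom ≫ T.hom = pullback.fst (𝟙 S) T.hom
    rw [← pullback.condition, Category.comp_id])

/-- The map induced by `g`. -/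
noncomputable def XTm {T T' : Over S} (g : T' ⟶ T) : XTo T' ⟶ XTo T :=
  Over.homMk (PicF.XTmap (𝟙 S) g) (FGA.XTmap_fst (𝟙 S) g)

lemma XTm_pr {T T' : Over S} (g : T' ⟶ T) : XTm g ≫ (pr T).hom = (pr T').hom ≫ g := by
  ext1
  change PicF.XTmap (𝟙 S) g ≫ pullback.snd (𝟙 S) T.hom = pullback.snd (𝟙 S) T'.hom ≫ g.left
  simp [PicF.XTmap]

lemma quotPull_eq {T T' : Over S} (g : T' ⟶ T) (K : Subobject (ET V (XTo T))) :
    FGA.quotPull (𝟙 S) V g K = pullK V (XTm g) K := by
  rw [quotPull_eq_subPull, ETiso_eq_tri]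
  rfl

/-- Existence of the universal submodule. -/
theorem exists_fga {G : Over S} {Z : RQSet V r G} (hZ : IsUniv V r G Z) :
    ∃ K : Subobject (FGA.ET (𝟙 S) V G), FlatMod.IsFinLocFreeOfRank r (cokernel K.arrow) ∧
      ∀ (T : Over S) (K' : Subobject (FGA.ET (𝟙 S) V T)),
        FlatMod.IsFinLocFreeOfRank r (cokernel K'.arrow) → ∃! g : T ⟶ G, FGA.quotPull (𝟙 S) V g K = K' := by
  refine ⟨(pullRQ V r (pr G).hom Z).1, (pullRQ V r (pr G).hom Z).2, fun T K' hK' => ?_⟩
  let x' : RQSet V r (XTo T) := ⟨K', hK'⟩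
  have key : ∀ g : T ⟶ G, FGA.quotPull (𝟙 S) V g (pullRQ V r (pr G).hom Z).1 = K' ↔
      pullRQ V r g Z = pullRQ V r (pr T).inv x' := by
    intro g
    have h1 : FGA.quotPull (𝟙 S) V g (pullRQ V r (pr G).hom Z).1 =
        (pullRQ V r (pr T).hom (pullRQ V r g Z)).1 := by
      rw [quotPull_eq, ← pullRQ_comp, ← XTm_pr, pullRQ_comp]
      rfl
    rw [h1]
    constructor
    · intro h
      have h2 : pullRQ V r (pr T).hom (pullRQ V r g Z) = x' := Subtype.ext h
      rw [← h2, ← pullRQ_comp, Iso.inv_hom_id, pullRQ_id]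
    · intro h
      rw [h, ← pullRQ_comp, Iso.hom_inv_id, pullRQ_id]
  obtain ⟨g, hg, hu⟩ := hZ T (pullRQ V r (pr T).inv x')
  exact ⟨g, (key g).2 hg, fun g' hg' => hu g' ((key g').1 hg')⟩

end K652.FgaGrass
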