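import Groth.Agent.Grass.K652.GrProper

/-!
# Geometry of the morphisms between flag schemes
-/

set_option autoImplicit false

universe u

open CategoryTheory CategoryTheory.Limits AlgebraicGeometry Opposite TopologicalSpace
open Grass

namespace K652.FlagGeom

open K652.QuotBC K652.FlagStep K652.FlagFirst K652.FlagIrr

/-- The relative dimension. -/
def dim (N : ℕ) {m : ℕ} (n : Fin m → ℕ) (k : ℕ) : ℕ :=
  ∑ i : Fin m, if k ≤ (i : ℕ) then n i * ((Fin.cons N n : Fin (m + 1) → ℕ) (Fin.castSucc i) - n i) else 0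

lemma dim_succ_zero (N : ℕ) {m : ℕ} (n : Fin (m + 1) → ℕ) :
    dim N n 0 = dim (n 0) (fun i => n i.succ) 0 + n 0 * (N - n 0) := by
  rw [dim, Fin.sum_univ_succ, add_comm]
  congr 1
  rw [dim]
  refine Finset.sum_congr rfl fun i _ => ?_
  have h1 : (Fin.cons (n 0) (fun i => n i.succ) : Fin (m + 1) → ℕ) = n := Fin.cons_self_tail n
  rw [h1]
  simp only [Nat.zero_le, if_true]
  rfl

lemma dim_succ_succ (N : ℕ) {m : ℕ} (n : Fin (m + 1) → ℕ) (k : ℕ) :
    dim N n (k + 1) = dim (n 0) (fun i => n i.succ) k := by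
  rw [dim, Fin.sum_univ_succ, dim]
  have h1 : (Fin.cons (n 0) (fun i => n i.succ) : Fin (m + 1) → ℕ) = n := Fin.cons_self_tail n
  rw [h1]
  have h2 : ¬ (k + 1 ≤ ((0 : Fin (m + 1)) : ℕ)) := by simp
  rw [if_neg h2, zero_add]
  refine Finset.sum_congr rfl fun i _ => ?_
  simp only [Fin.val_succ, add_le_add_iff_right]
  rfl

/-- Flag schemes over the base. -/
theorem base (m : ℕ) : ∀ (X F : Scheme.{u}) (π : F ⟶ X) (E : X.Modules)
    (N : ℕ) (_ : FlatMod.IsFinLocFreeOfRank N E) (n : Fin m → ℕ) (_ : StrictAnti n)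
    (_ : ∀ i, n i < N) (Q : Fin m → F.Modules) (q : ∀ i, (Scheme.Modules.pullback π).obj E ⟶ Q i)
    (_ : Grass.IsFlag π E n Q q), SmoothOfRelativeDimension (dim N n 0) π ∧ IsProper π ∧ Surjective π := by
  induction m with
  | zero =>
    intro X F π E N _ n _ _ Q q hF
    have := K652.FlagFirst.isIso_of_zero hF
    have h0 : dim N n 0 = 0 := by simp [dim]
    rw [h0]
    exact ⟨inferInstance, inferInstance, inferInstance⟩
  | succ m ih =>
    intro X F π E N hE n hn hN Q q hF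
    obtain ⟨G, π₁, Q₁, q₁, p, q', hc, hG, hF'⟩ := exists_isFlag hE hF
    obtain ⟨h1, h2, h3⟩ := ih G F p Q₁ (n 0) hG.rank (fun i => n i.succ) (fun i j hij => hn (Fin.succ_lt_succ_iff.2 hij))
      (fun i => hn (Fin.succ_pos i)) _ q' hF'
    have h4 := K652.GrGeom.smooth hE hG
    have h5 := K652.GrProper.isProper (hN 0).le hE hG
    have h6 := K652.GrGeom.surjective (hN 0).le hE hG
    subst hc
    rw [dim_succ_zero]
    exact ⟨inferInstance, inferInstance, inferInstance⟩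

/-- Morphisms between flag schemes. -/
theorem gen (k : ℕ) : ∀ (m : ℕ) (_ : k ≤ m) (X F F₀ : Scheme.{u}) (π : F ⟶ X) (π₀ : F₀ ⟶ X) (E : X.Modules)
    (N : ℕ) (_ : FlatMod.IsFinLocFreeOfRank N E) (n : Fin m → ℕ) (_ : StrictAnti n)
    (_ : ∀ i, n i < N) (Q : Fin m → F.Modules) (q : ∀ i, (Scheme.Modules.pullback π).obj E ⟶ Q i)
    (_ : Grass.IsFlag π E n Q q) (n₀ : Fin k → ℕ) (_ : ∀ (i : Fin k) (i' : Fin m), (i : ℕ) = i' → n₀ i = n i')
    (Q₀ : Fin k → F₀.Modules) (q₀ : ∀ i, (Scheme.Modules.pullback π₀).obj E ⟶ Q₀ i)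
    (_ : Grass.IsFlag π₀ E n₀ Q₀ q₀) (f : F ⟶ F₀) (hf : f ≫ π₀ = π)
    (_ : ∀ (i : Fin k) (i' : Fin m), (i : ℕ) = i' →
      ∃ e : (Scheme.Modules.pullback f).obj (Q₀ i) ≅ Q i', quotBC hf (q₀ i) ≫ e.hom = q i'),
    SmoothOfRelativeDimension (dim N n k) f ∧ IsProper f ∧ Surjective f := by
  induction k with
  | zero =>
    intro m _ X F F₀ π π₀ E N hE n hn hN Q q hF n₀ _ Q₀ q₀ hF₀ f hf _
    have := K652.FlagFirst.isIso_of_zero hF₀
    obtain ⟨h1, h2, h3⟩ := base m X F π E N hE n hn hN Q q hF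
    have h4 : f = π ≫ inv π₀ := by rw [← hf]; simp
    subst h4
    refine ⟨?_, inferInstance, inferInstance⟩
    exact (MorphismProperty.cancel_right_of_respectsIso (P := @SmoothOfRelativeDimension (dim N n 0)) _ _).2 h1
  | succ k ih =>
    intro m hk X F F₀ π π₀ E N hE n hn hN Q q hF n₀ hn₀ Q₀ q₀ hF₀ f hf he
    obtain _ | m := m
    · omega
    have hk' : k ≤ m := by omega
    obtain ⟨G, π₁, Q₁, q₁, hG⟩ := exists_isGrass hE (n 0)
    have h00 : n₀ 0 = n 0 := hn₀ 0 0 rfl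
    have hG' : Grass.IsGrass π₁ E (n₀ 0) Q₁ q₁ := by rw [h00]; exact hG
    obtain ⟨p₀, hc₀, ι₀, hι₀⟩ := exists_first hG' hF₀
    choose t₀ ht₀ using fun i : Fin k => hF₀.nested 0 i.succ (Fin.zero_le _)
    have hF₀' := K652.FlagFirst.isFlag hG' hF₀ p₀ hc₀ ι₀ hι₀ t₀ ht₀
    have hc : (f ≫ p₀) ≫ π₁ = π := by rw [Category.assoc, hc₀, hf]
    obtain ⟨e0, he0⟩ := he 0 0 rfl
    let ι : (Scheme.Modules.pullback (f ≫ p₀)).obj Q₁ ≅ Q 0 :=
      (Scheme.Modules.pullbackComp f p₀).symm.app Q₁ ≪≫ (Scheme.Modules.pullback f).mapIso ι₀ ≪≫ e0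
    have hι : quotBC hc q₁ ≫ ι.hom = q 0 := by
      have h1 := quotBC_through hc₀ q₁ ι₀ hι₀ f hf hc
      rw [← he0, ← h1]
      generalize quotBC hc q₁ = z
      simp [ι]
    choose t ht using fun i : Fin m => hF.nested 0 i.succ (Fin.zero_le _)
    have hF' := K652.FlagFirst.isFlag hG hF (f ≫ p₀) hc ι hι t ht
    rw [dim_succ_succ]
    refine ih m hk' G F F₀ (f ≫ p₀) p₀ Q₁ (n 0) hG.rank (fun i => n i.succ)
      (fun i j hij => hn (Fin.succ_lt_succ_iff.2 hij)) (fun i => hn (Fin.succ_pos i)) _ _ hF' (fun i => n₀ i.succ)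
      (fun i i' h => hn₀ _ _ (by simpa using h)) _ _ hF₀' f rfl (fun i i' h => ?_)
    obtain ⟨e', he'⟩ := he i.succ i'.succ (by simpa using h)
    refine ⟨e', ?_⟩
    have hq := hG.epi
    have hz : Epi (quotBC hc q₁) := inferInstance
    have h2 := quotBC_comp hc₀ (rfl : f ≫ p₀ = f ≫ p₀) hc hf q₁ (ι₀.hom ≫ t₀ i)
    have h3 : quotBC hc₀ q₁ ≫ ι₀.hom ≫ t₀ i = q₀ i.succ := by
      rw [← Category.assoc, hι₀, ht₀]
    rw [h3] at h2
    rw [← cancel_epi (quotBC hc q₁), ← Category.assoc (quotBC hc q₁), h2, he', ← Category.assoc, hι, ht]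

end K652.FlagGeom
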