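import Groth.Agent.Grass.K652.QcChart
import Groth.Agent.Fga.ClosedSub

/-!
# The zero locus of a morphism from a quasi-coherent module to a finite locally free module

`exists_zeroLocus`: for `κ : K ⟶ Q` with `K` quasi-coherent and `Q` finite locally free of rank `r` there is a closed
immersion `i : Z ⟶ Y` such that `h^* κ = 0` iff `h` factors through `i`.
-/

set_option autoImplicit false
set_option backward.isDefEq.respectTransparency false

universe u

open CategoryTheory CategoryTheory.Limits AlgebraicGeometry Opposite TopologicalSpace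

namespace K652.ZeroLocus

open Groth.Agent.Sga67.Sec Groth.Agent.Sga67.LocBasis Groth.Agent.Sga67.LocBasisStalk
open Groth.Agent.Krr.H490.LocBasisPull
open K652.BasisCrit K652.NearBasis K652.GrNrm2 K652.QcChart

variable {X Y T : Scheme.{u}}

/-- A morphism killing a generating family vanishes. -/
theorem eq_zero_of_isGen {M N : Y.Modules} {κ : Type*} {c : κ → Sec M (⊤ : Y.Opens)} (hc : IsGen c) (φ : M ⟶ N)
    (h : ∀ k, appS φ ⊤ (c k) = 0) : φ = 0 := by
  apply hom_ext
  intro V t
  apply eq_of_locally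
  intro x hx
  obtain ⟨V', hV, hW, S, f, hxV', hf⟩ := exists_finset_comb hc t x hx trivial
  refine ⟨V', hV, hxV', ?_⟩
  rw [← appS_res, hf, map_sum]
  have h1 : ∀ k ∈ S, appS φ V' (f k • res M hW (c k)) = 0 := by
    intro k _
    rw [map_smul, appS_res, h, map_zero, smul_zero]
  rw [Finset.sum_eq_zero h1]
  exact (map_zero (res N hV)).symm

theorem appS_map_psec (h : T ⟶ Y) {M N : Y.Modules} (φ : M ⟶ N) {U : Y.Opens} {V : T.Opens} (e : V ≤ h ⁻¹ᵁ U)
    (s : Sec M U) : appS ((Scheme.Modules.pullback h).map φ) V (psec h M e s) = psec h N e (appS φ U s) :=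
  Groth.Agent.Fga.SecComp.map_sec h φ e s

/-- A morphism which vanishes on an open cover vanishes. -/
theorem eq_zero_of_cover {M N : Y.Modules} (φ : M ⟶ N)
    (h : ∀ y : Y, ∃ V : Y.Opens, y ∈ V ∧ (Scheme.Modules.pullback V.ι).map φ = 0) : φ = 0 := by
  apply hom_ext
  intro W t
  apply eq_of_locally
  intro y hy
  obtain ⟨V, hyV, hV⟩ := h y
  refine ⟨W ⊓ V, inf_le_left, ⟨hy, hyV⟩, ?_⟩
  have e : V.ι ⁻¹ᵁ (W ⊓ V) ≤ V.ι ⁻¹ᵁ (W ⊓ V) := le_rfl
  have e' : W ⊓ V ≤ V.ι ''ᵁ (V.ι ⁻¹ᵁ (W ⊓ V)) := by
    intro x hx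
    exact ⟨⟨x, hx.2⟩, hx, rfl⟩
  have hb := Groth.Agent.Fga.SecComp.sec_bijective_of_isOpenImmersion V.ι N e e'
  apply hb.1
  have h1 := appS_map_psec V.ι φ e (res M (inf_le_left : W ⊓ V ≤ W) t)
  have h2 := appS_map_psec V.ι (0 : M ⟶ N) e (res M (inf_le_left : W ⊓ V ≤ W) t)
  rw [hV] at h1
  rw [Functor.map_zero] at h2
  have h3 := h1.symm.trans h2
  rw [appS_res, appS_res] at h3
  exact h3

theorem map_comp_eq_zero {T' : Scheme.{u}} (j : T' ⟶ T) (h : T ⟶ Y) {M N : Y.Modules} (φ : M ⟶ N)
    (h0 : (Scheme.Modules.pullback h).map φ = 0) : (Scheme.Modules.pullback (j ≫ h)).map φ = 0 := by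
  have h1 := (Scheme.Modules.pullbackComp j h).hom.naturality φ
  rw [← cancel_epi ((Scheme.Modules.pullbackComp j h).hom.app M), ← h1, comp_zero]
  change (Scheme.Modules.pullback j).map ((Scheme.Modules.pullback h).map φ) ≫ _ = 0
  rw [h0, Functor.map_zero, zero_comp]

theorem map_eq_zero_of_comp {T' : Scheme.{u}} (j : T' ⟶ T) (h : T ⟶ Y) {M N : Y.Modules} (φ : M ⟶ N)
    (h0 : (Scheme.Modules.pullback (j ≫ h)).map φ = 0) :
    (Scheme.Modules.pullback j).map ((Scheme.Modules.pullback h).map φ) = 0 := by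
  have h1 := (Scheme.Modules.pullbackComp j h).hom.naturality φ
  rw [h0, comp_zero] at h1
  have h2 : (Scheme.Modules.pullback j).map ((Scheme.Modules.pullback h).map φ) ≫
    (Scheme.Modules.pullbackComp j h).hom.app N = 0 := h1
  rwa [← cancel_mono ((Scheme.Modules.pullbackComp j h).hom.app N), zero_comp]

/-- The zero locus. -/
theorem exists_zeroLocus {K Q : Y.Modules} {r : ℕ} (hK : Coh.IsQCoh K) (hQ : FlatMod.IsFinLocFreeOfRank r Q)
    (κ : K ⟶ Q) : ∃ (Z : Scheme.{u}) (i : Z ⟶ Y), IsClosedImmersion i ∧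
      ∀ {T : Scheme.{u}} (h : T ⟶ Y), (Scheme.Modules.pullback h).map κ = 0 ↔ ∃ g : T ⟶ Z, g ≫ i = h := by
  obtain ⟨Z, i, hi, -, -, hZ⟩ := Groth.Agent.Fga.ClosedSub.exists_closed (H := Y) (N := fun _ => True)
    (P := fun {T} h => (Scheme.Modules.pullback h).map κ = 0) (Groth.Agent.Fga.ClosedSub.TestClass.all Y)
    { comp := fun j h _ _ h0 => map_comp_eq_zero j h κ h0
      loc := fun {T} h _ hl => eq_zero_of_cover _ fun t => by
        obtain ⟨V, htV, hV⟩ := hl t
        exact ⟨V, htV, map_eq_zero_of_comp V.ι h κ hV⟩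
      aff := by
        intro x
        obtain ⟨U', hxU', w', hw'⟩ := (K652.LfRank.iff_locBasis).1 hQ x
        obtain ⟨_, ⟨V, hV, rfl⟩, hxV, hVU⟩ := Y.isBasis_affineOpens.exists_subset_of_mem_open hxU' U'.2
        have hw : IsLocBasis (fun j => res Q hVU (w' j)) := hw'.restrict hVU
        let w : Fin r → Sec Q V := fun j => res Q hVU (w' j)
        change IsLocBasis w at hw
        obtain ⟨a, ha⟩ := exists_isMat hw (fun s : Sec K V => appS κ V s)
        refine ⟨Γ(Y, V), IsAffineOpen.fromSpec hV, inferInstance, by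
          rw [IsAffineOpen.range_fromSpec]; exact hxV, Ideal.span {c | ∃ j s, c = a j s}, ?_⟩
        intro B φ _
        let v := IsAffineOpen.fromSpec hV
        let h : Spec B ⟶ Y := Spec.map φ ≫ v
        have hT : ⊤ ≤ h ⁻¹ᵁ V := by
          intro t _
          have : v (Spec.map φ t) ∈ Set.range v := ⟨_, rfl⟩
          rw [IsAffineOpen.range_fromSpec] at this
          exact this
        have h1 := crd_lift hV (Spec.map φ) h rfl hT
        have h2 : crd (Spec.map φ) = φ ≫ (Scheme.ΓSpecIso B).inv := by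
          rw [crd, ← Scheme.ΓSpecIso_inv_naturality]
        have h3 : ∀ c, h.appLE V ⊤ hT c = 0 ↔ φ.hom c = 0 := by
          intro c
          rw [← h1, h2]
          have hbij : Function.Bijective (Scheme.ΓSpecIso B).inv := ConcreteCategory.bijective_of_isIso _
          constructor
          · intro h0
            apply hbij.1
            rw [map_zero]
            exact h0
          · intro h0
            change (Scheme.ΓSpecIso B).inv (φ.hom c) = 0
            rw [h0, map_zero]
        have h4 : ∀ s, psec h Q hT (appS κ V s) = comb (fun j => psec h Q hT (w j)) (le_refl ⊤)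
            (fun j => h.appLE V ⊤ hT (a j s)) := by
          intro s
          have h5 := isMat_psec h hT ha s
          refine h5.trans ?_
          rw [comb_apply]
          refine Finset.sum_congr rfl fun j _ => ?_
          rw [res_self]
          rfl
        have hwb : IsLocBasis (fun j => psec h Q hT (w j)) := isLocBasis_psec h Q hT hw
        change (Scheme.Modules.pullback h).map κ = 0 ↔ _
        constructor
        · intro h0 c hc
          have key : Ideal.span {c | ∃ j s, c = a j s} ≤ RingHom.ker φ.hom := by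
            rw [Ideal.span_le]
            rintro _ ⟨j, s, rfl⟩
            have h6 := appS_map_psec h κ hT s
            rw [h0, h4] at h6
            have h7 : comb (fun j => psec h Q hT (w j)) (le_refl ⊤) (fun j => h.appLE V ⊤ hT (a j s)) =
                comb (fun j => psec h Q hT (w j)) (le_refl ⊤) 0 := h6.symm.trans (map_zero _).symm
            have h8 := congrFun ((hwb ⊤ le_rfl).1 h7) j
            exact (h3 _).1 h8
          exact key hc
        · intro h0
          refine eq_zero_of_isGen ((isGen_univ hK hV).psec h hT) _ fun s => ?_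
          rw [appS_map_psec, h4]
          have h9 : (fun j => h.appLE V ⊤ hT (a j s)) = 0 := by
            funext j
            exact (h3 _).2 (h0 _ (Ideal.subset_span ⟨j, s, rfl⟩))
          rw [h9, map_zero] }
  exact ⟨Z, i, hi, fun h => hZ h trivial⟩

end K652.ZeroLocus
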