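import Groth.Agent.Grass.K652.QuotBC
import Groth.Agent.Grass.K652.ZeroLocus
import Groth.Agent.PerfA.QCohSerre

/-!
# The morphism of Grassmannians attached to an epimorphism is a closed immersion
-/

set_option autoImplicit false
universe u
open CategoryTheory CategoryTheory.Limits AlgebraicGeometry TopologicalSpace Opposite

namespace K652.MapEpi

open Grass K652.QuotBC K652.ZeroLocus

variable {X F T : Scheme.{u}}

theorem quotBC_map {π : F ⟶ X} {h : T ⟶ F} {g : T ⟶ X} (hg : h ≫ π = g) {E E' : X.Modules}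
    {Q : F.Modules} (v : E' ⟶ E) (q : (Scheme.Modules.pullback π).obj E ⟶ Q) :
    quotBC hg ((Scheme.Modules.pullback π).map v ≫ q) = (Scheme.Modules.pullback g).map v ≫ quotBC hg q := by
  have h1 := (Scheme.Modules.pullbackCongr hg).inv.naturality v
  have h2 := (Scheme.Modules.pullbackComp h π).inv.naturality v
  have h2' : (Scheme.Modules.pullback (h ≫ π)).map v ≫ (Scheme.Modules.pullbackComp h π).inv.app E =
    (Scheme.Modules.pullbackComp h π).inv.app E' ≫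
      (Scheme.Modules.pullback h).map ((Scheme.Modules.pullback π).map v) := h2
  simp only [quotBC, Functor.map_comp]
  rw [← reassoc_of% h2', ← reassoc_of% h1]

/-- Factorisation of quotients. -/
theorem exists_factor {E₁ E₂ : X.Modules} (v : E₁ ⟶ E₂) [Epi v] (g : T ⟶ X) {L : T.Modules}
    (s : (Scheme.Modules.pullback g).obj E₁ ⟶ L) (h : (Scheme.Modules.pullback g).map (kernel.ι v) ≫ s = 0) :
    ∃ t : (Scheme.Modules.pullback g).obj E₂ ⟶ L, (Scheme.Modules.pullback g).map v ≫ t = s := by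
  have h1 : (ShortComplex.mk (kernel.ι v) v (kernel.condition v)).Exact := ShortComplex.exact_kernel v
  have h2 := h1.map_of_epi_of_preservesCokernel (Scheme.Modules.pullback g) inferInstance inferInstance
  have : Epi ((ShortComplex.mk (kernel.ι v) v (kernel.condition v)).map (Scheme.Modules.pullback g)).g :=
    epi_pullback_map g v
  exact ⟨h2.desc s h, h2.g_desc s h⟩

variable {G₁ G₂ : Scheme.{u}} {π₁ : G₁ ⟶ X} {π₂ : G₂ ⟶ X} {E₁ E₂ : X.Modules} {e : ℕ}
  {Q₁ : G₁.Modules} {q₁ : (Scheme.Modules.pullback π₁).obj E₁ ⟶ Q₁}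
  {Q₂ : G₂.Modules} {q₂ : (Scheme.Modules.pullback π₂).obj E₂ ⟶ Q₂}

/-- A morphism to a Grassmannian is determined by the base change of the quotient. -/
theorem hom_ext (hG : IsGrass π₁ E₁ e Q₁ q₁) {a b : T ⟶ G₁} {g : T ⟶ X} (ha : a ≫ π₁ = g) (hb : b ≫ π₁ = g)
    (i : (Scheme.Modules.pullback a).obj Q₁ ≅ (Scheme.Modules.pullback b).obj Q₁)
    (hi : quotBC ha q₁ ≫ i.hom = quotBC hb q₁) : a = b := by
  have := hG.epi
  exact (hG.univ T g _ (K652.LfRank.pullback b hG.rank) (quotBC hb q₁) inferInstance).unique ⟨ha, i, hi⟩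
    ⟨hb, Iso.refl _, Category.comp_id _⟩

/-- **The morphism of Grassmannians attached to an epimorphism of quasi-coherent modules is a closed immersion.** -/
theorem isClosedImmersion_mapOfEpi (hE₁ : Coh.IsQCoh E₁) (hE₂ : Coh.IsQCoh E₂) (v : E₁ ⟶ E₂) [Epi v]
    (hG₁ : IsGrass π₁ E₁ e Q₁ q₁) (hG₂ : IsGrass π₂ E₂ e Q₂ q₂) : IsClosedImmersion (hG₁.mapOfEpi hG₂ v) := by
  let c : G₂ ⟶ G₁ := hG₁.mapOfEpi hG₂ v
  have hc : c ≫ π₁ = π₂ := hG₁.mapOfEpi_comp hG₂ v
  obtain ⟨hc', ic, hic⟩ := hG₁.lift_spec π₂ Q₂ hG₂.rank ((Scheme.Modules.pullback π₂).map v ≫ q₂)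
    (haveI := hG₂.epi; haveI := epi_pullback_map π₂ v; epi_comp _ _)
  change (Scheme.Modules.pullback c).obj Q₁ ≅ Q₂ at ic
  replace hic : quotBC hc q₁ ≫ ic.hom = (Scheme.Modules.pullback π₂).map v ≫ q₂ := hic
  have hq₁ := hG₁.epi
  have hq₂ := hG₂.epi
  have hK : Coh.IsQCoh (kernel v) := Groth.Agent.PerfA.QCohSerre.isQCoh_kernel v hE₁ hE₂
  let κ : (Scheme.Modules.pullback π₁).obj (kernel v) ⟶ Q₁ :=
    (Scheme.Modules.pullback π₁).map (kernel.ι v) ≫ q₁
  have hκ : ∀ {T : Scheme.{u}} (h : T ⟶ G₁) (g : T ⟶ X) (hg : h ≫ π₁ = g),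
      (Scheme.Modules.pullback h).map κ = 0 ↔
        (Scheme.Modules.pullback g).map (kernel.ι v) ≫ quotBC hg q₁ = 0 := by
    intro T h g hg
    rw [← quotBC_map hg (kernel.ι v) q₁]
    constructor
    · intro h0
      change _ ≫ _ ≫ (Scheme.Modules.pullback h).map κ = 0
      rw [h0, comp_zero, comp_zero]
    · intro h0
      change (Scheme.Modules.pullbackCongr hg).inv.app _ ≫ (Scheme.Modules.pullbackComp h π₁).inv.app _ ≫
        (Scheme.Modules.pullback h).map κ = 0 at h0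
      rwa [← cancel_epi ((Scheme.Modules.pullbackComp h π₁).inv.app _),
        ← cancel_epi ((Scheme.Modules.pullbackCongr hg).inv.app _), comp_zero, comp_zero]
  obtain ⟨Z, i, hi, hZ⟩ := exists_zeroLocus
    (Groth.Agent.VarietyB.PullSec.isQCoh_pullback π₁ (kernel v) hK) hG₁.rank κ
  -- `c` factors through `Z`
  obtain ⟨c', hc'⟩ := (hZ c).1 ((hκ c π₂ hc).2 (by
    rw [← cancel_mono ic.hom, Category.assoc, hic, zero_comp, ← Category.assoc, ← Functor.map_comp,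
      kernel.condition, Functor.map_zero, zero_comp]))
  -- `Z` maps to `G₂`
  have h0 := (hκ i (i ≫ π₁) rfl).1 ((hZ i).2 ⟨𝟙 _, Category.id_comp _⟩)
  obtain ⟨s, hs⟩ := exists_factor v (i ≫ π₁) (quotBC (rfl : i ≫ π₁ = i ≫ π₁) q₁) h0
  have hes : Epi s := by
    have h1 : Epi ((Scheme.Modules.pullback (i ≫ π₁)).map v ≫ s) := by rw [hs]; infer_instance
    exact epi_of_epi ((Scheme.Modules.pullback (i ≫ π₁)).map v) s
  obtain ⟨d, ⟨hd, id', hid⟩, -⟩ := hG₂.univ Z (i ≫ π₁) _ (K652.LfRank.pullback i hG₁.rank) s hes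
  -- the composite `Z ⟶ G₂ ⟶ G₁` is `i`
  have key : ∀ {T : Scheme.{u}} (a : T ⟶ G₂) (g : T ⟶ X) (ha : a ≫ π₂ = g) (ha' : (a ≫ c) ≫ π₁ = g),
      ∃ j : (Scheme.Modules.pullback (a ≫ c)).obj Q₁ ≅ (Scheme.Modules.pullback a).obj Q₂,
        quotBC ha' q₁ ≫ j.hom = (Scheme.Modules.pullback g).map v ≫ quotBC ha q₂ := by
    intro T a g ha ha'
    refine ⟨(Scheme.Modules.pullbackComp a c).symm.app Q₁ ≪≫ (Scheme.Modules.pullback a).mapIso ic, ?_⟩
    have h1 := quotBC_comp hc (rfl : a ≫ c = a ≫ c) ha' ha q₁ ic.hom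
    rw [hic, quotBC_map ha v q₂] at h1
    rw [← h1]
    have e0 : quotBC (rfl : a ≫ c = a ≫ c) ic.hom =
        (Scheme.Modules.pullbackComp a c).inv.app Q₁ ≫ (Scheme.Modules.pullback a).map ic.hom := by
      simp [quotBC, Scheme.Modules.pullbackCongr]
    rw [e0]
    rfl
  have hdc : d ≫ c = i := by
    have ha' : (d ≫ c) ≫ π₁ = i ≫ π₁ := by rw [Category.assoc, hc, hd]
    obtain ⟨j, hj⟩ := key d (i ≫ π₁) hd ha'
    refine hom_ext hG₁ ha' rfl (j ≪≫ id') ?_
    rw [Iso.trans_hom, ← Category.assoc, hj, Category.assoc, hid, hs]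
  -- `c` is a monomorphism
  have hmono : ∀ {T : Scheme.{u}} (a b : T ⟶ G₂), a ≫ c = b ≫ c → a = b := by
    intro T a b hab
    have hg : a ≫ π₂ = b ≫ π₂ := by rw [← hc, ← Category.assoc, hab, Category.assoc]
    have ha' : (a ≫ c) ≫ π₁ = b ≫ π₂ := by rw [Category.assoc, hc, hg]
    have hb' : (b ≫ c) ≫ π₁ = b ≫ π₂ := by rw [Category.assoc, hc]
    obtain ⟨j, hj⟩ := key a (b ≫ π₂) hg ha'
    obtain ⟨k, hk⟩ := key b (b ≫ π₂) rfl hb'
    have hm : ∀ (p : T ⟶ G₁) (hp : p = b ≫ c) (hp' : p ≫ π₁ = b ≫ π₂),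
        ∃ l : (Scheme.Modules.pullback p).obj Q₁ ≅ (Scheme.Modules.pullback (b ≫ c)).obj Q₁,
          quotBC hp' q₁ ≫ l.hom = quotBC hb' q₁ := by
      rintro p rfl hp'
      exact ⟨Iso.refl _, Category.comp_id _⟩
    obtain ⟨l, hl⟩ := hm (a ≫ c) hab ha'
    refine hom_ext hG₂ hg rfl (j.symm ≪≫ l ≪≫ k) ?_
    have := epi_pullback_map (b ≫ π₂) v
    rw [← cancel_epi ((Scheme.Modules.pullback (b ≫ π₂)).map v), ← hk, ← hl, Iso.trans_hom, Iso.trans_hom,
      ← Category.assoc, ← hj]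
    simp
  have h3 : c' ≫ d = 𝟙 _ := hmono _ _ (by rw [Category.assoc, hdc, hc', Category.id_comp])
  have h4 : d ≫ c' = 𝟙 _ := by
    have : Mono i := inferInstance
    rw [← cancel_mono i, Category.assoc, hc', hdc, Category.id_comp]
  have h5 : IsIso c' := ⟨d, h3, h4⟩
  change IsClosedImmersion c
  rw [← hc']
  infer_instance

end K652.MapEpi
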