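import Mathlib.Algebra.MvPolynomial.Eval
import Mathlib.RingTheory.Ideal.Quotient.Operations

/-!
# The algebra representing normalised linear maps `M → C^r`

`A` a commutative ring, `M` an `A`-module, `s : Fin r → M`.  `Bp A s` is the `A`-algebra with
`Hom_A (Bp A s, C) = {μ : M → C^r | μ linear, μ (s_k) = e_k}`.
-/

set_option autoImplicit false
universe u v

namespace K652.QcAlg

variable (A : Type u) [CommRing A] {M : Type v} [AddCommGroup M] [Module A M] {r : ℕ} (s : Fin r → M)

/-- The relations. -/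
noncomputable def rels : Set (MvPolynomial (Fin r × M) A) :=
  {x | (∃ (j : Fin r) (m m' : M), x = MvPolynomial.X (j, m + m') - MvPolynomial.X (j, m) - MvPolynomial.X (j, m')) ∨
    (∃ (j : Fin r) (a : A) (m : M), x = MvPolynomial.X (j, a • m) - MvPolynomial.C a * MvPolynomial.X (j, m)) ∨
    ∃ (j k : Fin r), x = MvPolynomial.X (j, s k) - MvPolynomial.C (if j = k then 1 else 0)}

/-- The algebra. -/
abbrev Bp : Type (max u v) := MvPolynomial (Fin r × M) A ⧸ Ideal.span (rels A s)

/-- The universal linear map. -/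
noncomputable def uB (j : Fin r) (m : M) : Bp A s := Ideal.Quotient.mk _ (MvPolynomial.X (j, m))

variable {A s}

theorem mk_eq_zero {x : MvPolynomial (Fin r × M) A} (h : x ∈ rels A s) :
    (Ideal.Quotient.mk (Ideal.span (rels A s)) x) = 0 :=
  Ideal.Quotient.eq_zero_iff_mem.2 (Ideal.subset_span h)

theorem algebraMap_Bp (a : A) : algebraMap A (Bp A s) a = Ideal.Quotient.mk _ (MvPolynomial.C a) := rfl

theorem uB_add (j : Fin r) (m m' : M) : uB A s j (m + m') = uB A s j m + uB A s j m' := by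
  have := mk_eq_zero (A := A) (s := s) (Or.inl ⟨j, m, m', rfl⟩)
  rw [map_sub, map_sub, sub_sub, sub_eq_zero] at this
  exact this

theorem uB_smul (j : Fin r) (a : A) (m : M) : uB A s j (a • m) = algebraMap A (Bp A s) a * uB A s j m := by
  have := mk_eq_zero (A := A) (s := s) (Or.inr (Or.inl ⟨j, a, m, rfl⟩))
  rw [map_sub, map_mul, sub_eq_zero] at this
  exact this

theorem uB_s (j k : Fin r) : uB A s j (s k) = if j = k then 1 else 0 := by
  have := mk_eq_zero (A := A) (s := s) (Or.inr (Or.inr ⟨j, k, rfl⟩))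
  rw [map_sub, sub_eq_zero] at this
  refine this.trans ?_
  split_ifs <;> simp

variable {C : Type*} [CommRing C]

theorem exists_lift (φ : A →+* C) (μ : Fin r → M → C) (hadd : ∀ j m m', μ j (m + m') = μ j m + μ j m')
    (hsmul : ∀ j (a : A) m, μ j (a • m) = φ a * μ j m) (hs : ∀ j k, μ j (s k) = if j = k then 1 else 0) :
    ∃ ψ : Bp A s →+* C, ψ.comp (algebraMap A (Bp A s)) = φ ∧ ∀ j m, ψ (uB A s j m) = μ j m := by
  refine ⟨Ideal.Quotient.lift _ (MvPolynomial.eval₂Hom φ fun p => μ p.1 p.2) ?_, ?_, ?_⟩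
  · intro x hx
    rw [← RingHom.mem_ker]
    revert x
    change Ideal.span (rels A s) ≤ _
    rw [Ideal.span_le]
    rintro _ (⟨j, m, m', rfl⟩ | ⟨j, a, m, rfl⟩ | ⟨j, k, rfl⟩)
    · rw [SetLike.mem_coe, RingHom.mem_ker, map_sub, map_sub, MvPolynomial.eval₂Hom_X', MvPolynomial.eval₂Hom_X',
        MvPolynomial.eval₂Hom_X', hadd]
      ring
    · rw [SetLike.mem_coe, RingHom.mem_ker, map_sub, map_mul, MvPolynomial.eval₂Hom_X', MvPolynomial.eval₂Hom_X',
        MvPolynomial.eval₂Hom_C, hsmul, sub_self]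
    · rw [SetLike.mem_coe, RingHom.mem_ker, map_sub, MvPolynomial.eval₂Hom_X', MvPolynomial.eval₂Hom_C, hs]
      split_ifs <;> simp
  · ext a
    change MvPolynomial.eval₂Hom φ _ (MvPolynomial.C a) = _
    simp
  · intro j m
    change MvPolynomial.eval₂Hom φ (fun p => μ p.1 p.2) (MvPolynomial.X (j, m)) = _
    simp

theorem hom_ext {ψ ψ' : Bp A s →+* C} (h : ψ.comp (algebraMap A (Bp A s)) = ψ'.comp (algebraMap A (Bp A s)))
    (h' : ∀ j m, ψ (uB A s j m) = ψ' (uB A s j m)) : ψ = ψ' := by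
  apply Ideal.Quotient.ringHom_ext
  apply MvPolynomial.ringHom_ext
  · intro a
    exact congrArg (fun f : A →+* C => f a) h
  · rintro ⟨j, m⟩
    exact h' j m

end K652.QcAlg
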