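import Groth.Agent.Grass.K652.QcHom
import Groth.Agent.Grass.K652.QcAlg
import Groth.Agent.Grass.K652.GrCharts
import Groth.Agent.CycB.CohStalk

/-!
# Affine charts of the Grassmannian of a quasi-coherent module of finite type
-/

set_option autoImplicit false
set_option backward.isDefEq.respectTransparency false

universe u

open CategoryTheory CategoryTheory.Limits AlgebraicGeometry Opposite TopologicalSpace

namespace K652.QcChart

open Groth.Agent.Sga67.Sec Groth.Agent.Sga67.LocBasis Groth.Agent.Sga67.LocBasisStalk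
open Groth.Agent.Krr.H490.NrmSub Groth.Agent.Krr.H490.NrmSub2 Groth.Agent.Krr.H490.LocBasisPull
open K652.BasisCrit K652.NearBasis K652.GrFun K652.GrNrm K652.GrNrm2 K652.QcHom K652.QcAlg K652.GrCharts

section Crd

variable {T : Scheme.{u}} {B C : CommRingCat.{u}}

/-- The ring map of a morphism to an affine scheme. -/
noncomputable def crd (h : T ⟶ Spec B) : B ⟶ Γ(T, ⊤) := (Scheme.ΓSpecIso B).inv ≫ h.appTop

theorem toSpec_crd (h : T ⟶ Spec B) : T.toSpecΓ ≫ Spec.map (crd h) = h := by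
  rw [crd, Spec.map_comp, ← Category.assoc, ← Scheme.toSpecΓ_naturality, Category.assoc,
    toSpecΓ_SpecMap_ΓSpecIso_inv]
  exact Category.comp_id _

theorem crd_ext {h h' : T ⟶ Spec B} (e : crd h = crd h') : h = h' := by
  rw [← toSpec_crd h, e, toSpec_crd]

theorem crd_comp (h : T ⟶ Spec C) (φ : B ⟶ C) : crd (h ≫ Spec.map φ) = φ ≫ crd h := by
  rw [crd, crd, Scheme.Hom.comp_appTop, ← Category.assoc, ← Scheme.ΓSpecIso_inv_naturality]
  simp

theorem crd_toSpec (ψ : B ⟶ Γ(T, ⊤)) : crd (T.toSpecΓ ≫ Spec.map ψ) = ψ := by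
  rw [crd_comp, crd, Scheme.toSpecΓ_appTop]
  simp

end Crd

variable {X : Scheme.{u}} {E : X.Modules} {U : X.Opens} {r : ℕ}

theorem crd_lift (hU : IsAffineOpen U) {T : Scheme.{u}} (g : T ⟶ Spec Γ(X, U)) (f : T ⟶ X)
    (hg : g ≫ hU.fromSpec = f) (hT : ⊤ ≤ f ⁻¹ᵁ U) : crd g = f.appLE U ⊤ hT := by
  subst hg
  have e : ⊤ ≤ hU.fromSpec ⁻¹ᵁ U := by rw [hU.fromSpec_preimage_self]
  have h1 := Scheme.Hom.appLE_comp_appLE g hU.fromSpec U ⊤ ⊤ e le_rfl
  rw [← h1, crd]
  have h2 : hU.fromSpec.appLE U ⊤ e = (Scheme.ΓSpecIso Γ(X, U)).inv := by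
    rw [Scheme.Hom.appLE, hU.fromSpec_app_self, Category.assoc, ← Functor.map_comp]
    have : (eqToHom hU.fromSpec_preimage_self).op ≫ (homOfLE e).op = 𝟙 _ := Subsingleton.elim _ _
    rw [this, CategoryTheory.Functor.map_id, Category.comp_id]
  rw [h2]
  congr 1
  exact Scheme.Hom.app_eq_appLE g

section Coords

/-- Normalised coordinates of a quotient. -/
structure IsLin (s : Fin r → Sec E U) {T : Over X} (hT : ⊤ ≤ T.hom ⁻¹ᵁ U)
    (a : Matrix (Fin r) (Sec E U) Γ(T.left, ⊤)) : Prop where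
  add : ∀ j m m', a j (m + m') = a j m + a j m'
  smul : ∀ j (c : Γ(X, U)) m, a j (c • m) = T.hom.appLE U ⊤ hT c * a j m
  norm : ∀ j k, a j (s k) = if j = k then 1 else 0

theorem isLin_of_isCo {s : Fin r → Sec E U} {T : Over X} {hT : ⊤ ≤ T.hom ⁻¹ᵁ U}
    {a : Matrix (Fin r) (Sec E U) Γ(T.left, ⊤)} {K : Subobject (ET E T)} (hb : IsB s K hT)
    (h : IsCo s (fun m : Sec E U => m) K hT a) : IsLin s hT a where
  add j m m' := by
    have h1 : IsMat (fun j => val K hT (s j)) (fun _ : Unit => val K hT (m + m'))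
        (Matrix.of fun j _ => a j (m + m')) := fun _ => h (m + m')
    have h2 : IsMat (fun j => val K hT (s j)) (fun _ : Unit => val K hT (m + m'))
        (Matrix.of fun j _ => a j m + a j m') := by
      intro _
      have e1 : val K hT m = ∑ i, a i m • val K hT (s i) := h m
      have e2 : val K hT m' = ∑ i, a i m' • val K hT (s i) := h m'
      rw [val_add, e1, e2, ← Finset.sum_add_distrib]
      refine Finset.sum_congr rfl fun i _ => ?_
      rw [← add_smul]
      rfl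
    exact congrFun (congrFun (h1.unique hb h2) j) ()
  smul j c m := by
    have h1 : IsMat (fun j => val K hT (s j)) (fun _ : Unit => val K hT (c • m))
        (Matrix.of fun j _ => a j (c • m)) := fun _ => h (c • m)
    have h2 : IsMat (fun j => val K hT (s j)) (fun _ : Unit => val K hT (c • m))
        (Matrix.of fun j _ => T.hom.appLE U ⊤ hT c * a j m) := by
      intro _
      have e1 : val K hT m = ∑ i, a i m • val K hT (s i) := h m
      rw [val_smul, e1, Finset.smul_sum]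
      refine Finset.sum_congr rfl fun i _ => ?_
      rw [smul_smul]
      rfl
    exact congrFun (congrFun (h1.unique hb h2) j) ()
  norm j k := by
    have h1 : IsMat (fun j => val K hT (s j)) (fun k => val K hT (s k)) (Matrix.of fun j k => a j (s k)) :=
      fun k => h (s k)
    have h2 : IsMat (fun j => val K hT (s j)) (fun k => val K hT (s k)) (1 : Matrix (Fin r) (Fin r) _) := by
      intro k
      simp [Matrix.one_apply]
    have := congrFun (congrFun (h1.unique hb h2) j) k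
    rw [Matrix.one_apply] at this
    exact this

theorem exists_elt_of_isLin (hE : Coh.IsQCoh E) (hU : IsAffineOpen U) {s : Fin r → Sec E U} {T : Over X}
    {hT : ⊤ ≤ T.hom ⁻¹ᵁ U} {a : Matrix (Fin r) (Sec E U) Γ(T.left, ⊤)} (ha : IsLin s hT a) :
    ∃ x : RQSet E r T, IsB s x.1 hT ∧ IsCo s (fun m : Sec E U => m) x.1 hT a := by
  obtain ⟨f, hf⟩ := exists_hom_pt hE hU T hT (FlatMod.freeMod T.left r)
    (fun m => ∑ j, a j m • freeBasis T.left r j) (fun m m' => by
      rw [← Finset.sum_add_distrib]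
      refine Finset.sum_congr rfl fun j _ => ?_
      rw [ha.add, add_smul]) (fun c m => by
      rw [Finset.smul_sum]
      refine Finset.sum_congr rfl fun j _ => ?_
      rw [ha.smul, mul_smul])
  obtain ⟨x, hx, hx'⟩ := exists_of_hom (s := s) hT f (fun k => by
    rw [hf]
    simp only [ha.norm, ite_smul, one_smul, zero_smul, Finset.sum_ite_eq', Finset.mem_univ, if_true])
  exact ⟨x, hx, fun m => hx' m (fun j => a j m) (hf m)⟩

/-- The sections over an affine open generate. -/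
theorem isGen_univ (hE : Coh.IsQCoh E) (hU : IsAffineOpen U) : IsGen (fun m : Sec E U => m) := by
  intro x hx
  rw [eq_top_iff]
  intro t _
  obtain ⟨g, s, hg, hs⟩ := Groth.Agent.Fdesc.QCohStalk.exists_germ_eq_smul E hU hE x hx t
  have hu : IsUnit (X.presheaf.germ U x hx g) := (Scheme.mem_basicOpen _ _ _ hx).1 hg
  obtain ⟨v, hv⟩ := hu
  have h1 : t = (v⁻¹ : (X.presheaf.stalk x)ˣ).1 • ger E x hx s := by
    have h2 : ger E x hx s = v.1 • t := by
      rw [hv]
      exact hs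
    rw [h2, smul_smul, Units.inv_mul, one_smul]
  rw [h1]
  exact Submodule.smul_mem _ _ (Submodule.subset_span ⟨s, rfl⟩)

theorem isGen_of_span (hE : Coh.IsQCoh E) (hU : IsAffineOpen U) {n : ℕ} {c : Fin n → Sec E U}
    (hc : Submodule.span Γ(X, U) (Set.range c) = ⊤) : IsGen c := by
  intro x hx
  rw [eq_top_iff, ← isGen_univ hE hU x hx, Submodule.span_le]
  rintro _ ⟨m, rfl⟩
  have hm : m ∈ Submodule.span Γ(X, U) (Set.range c) := by rw [hc]; trivial
  change ger E x hx m ∈ _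
  induction hm using Submodule.span_induction with
  | mem m hm =>
    obtain ⟨k, rfl⟩ := hm
    exact Submodule.subset_span ⟨k, rfl⟩
  | zero => rw [ger_zero]; exact zero_mem _
  | add m m' _ _ h h' => rw [ger_add]; exact add_mem h h'
  | smul a m _ h => rw [ger_smul]; exact Submodule.smul_mem _ _ h

theorem eq_of_isCo' (hE : Coh.IsQCoh E) (hU : IsAffineOpen U) {s : Fin r → Sec E U} {T : Over X}
    {hT : ⊤ ≤ T.hom ⁻¹ᵁ U} {a : Matrix (Fin r) (Sec E U) Γ(T.left, ⊤)} {K K' : Subobject (ET E T)}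
    (hb : IsB s K hT) (hb' : IsB s K' hT) (h : IsCo s (fun m : Sec E U => m) K hT a)
    (h' : IsCo s (fun m : Sec E U => m) K' hT a) : K = K' :=
  eq_of_co hT ((isGen_univ hE hU).psec T.hom hT) hb hb' h h'

end Coords

/-! ### The chart -/

section Chart

variable {s : Fin r → Sec E U}

variable (s) in
/-- The chart attached to `r` sections over an affine open. -/
noncomputable def CQ (hU : IsAffineOpen U) : Over X :=
  Over.mk (Spec.map (CommRingCat.ofHom (algebraMap Γ(X, U) (Bp Γ(X, U) s))) ≫ hU.fromSpec)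

theorem CQ_hom (hU : IsAffineOpen U) : (CQ s hU).hom =
    Spec.map (CommRingCat.ofHom (algebraMap Γ(X, U) (Bp Γ(X, U) s))) ≫ hU.fromSpec := rfl

theorem top_le_CQ (hU : IsAffineOpen U) : ⊤ ≤ (CQ s hU).hom ⁻¹ᵁ U := by
  intro t _
  change ((Spec.map (CommRingCat.ofHom (algebraMap Γ(X, U) (Bp Γ(X, U) s))) ≫ hU.fromSpec) t) ∈ U
  rw [Scheme.Hom.comp_apply]
  have : hU.fromSpec (Spec.map (CommRingCat.ofHom (algebraMap Γ(X, U) (Bp Γ(X, U) s))) t) ∈
      Set.range hU.fromSpec := ⟨_, rfl⟩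
  rw [hU.range_fromSpec] at this
  exact this

/-- The ring map of a morphism to the chart. -/
noncomputable def cr (hU : IsAffineOpen U) {T : Over X} (h : T ⟶ CQ s hU) : Bp Γ(X, U) s →+* Γ(T.left, ⊤) :=
  (crd (B := CommRingCat.of (Bp Γ(X, U) s)) h.left).hom

theorem cr_alg (hU : IsAffineOpen U) {T : Over X} (hT : ⊤ ≤ T.hom ⁻¹ᵁ U) (h : T ⟶ CQ s hU) :
    (cr hU h).comp (algebraMap Γ(X, U) (Bp Γ(X, U) s)) = (T.hom.appLE U ⊤ hT).hom := by
  have h1 : (h.left ≫ Spec.map (CommRingCat.ofHom (algebraMap Γ(X, U) (Bp Γ(X, U) s)))) ≫ hU.fromSpec = T.hom := by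
    rw [Category.assoc]
    exact Over.w h
  have h2 := crd_lift hU _ T.hom h1 hT
  rw [← h2]
  have h3 := crd_comp (B := Γ(X, U)) (C := CommRingCat.of (Bp Γ(X, U) s)) h.left
    (CommRingCat.ofHom (algebraMap Γ(X, U) (Bp Γ(X, U) s)))
  exact (congrArg CommRingCat.Hom.hom h3).symm

theorem cr_ext (hU : IsAffineOpen U) {T : Over X} {h h' : T ⟶ CQ s hU} (e : cr hU h = cr hU h') : h = h' := by
  ext1
  exact crd_ext (CommRingCat.hom_ext e)

theorem exists_cr (hU : IsAffineOpen U) {T : Over X} (hT : ⊤ ≤ T.hom ⁻¹ᵁ U) (ψ : Bp Γ(X, U) s →+* Γ(T.left, ⊤))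
    (hψ : ψ.comp (algebraMap Γ(X, U) (Bp Γ(X, U) s)) = (T.hom.appLE U ⊤ hT).hom) :
    ∃ h : T ⟶ CQ s hU, cr hU h = ψ := by
  obtain ⟨g, hg⟩ := exists_lift hU T hT
  have h1 := crd_lift hU g T.hom hg hT
  have h2 : (T.left.toSpecΓ ≫ Spec.map (CommRingCat.ofHom ψ)) ≫
      Spec.map (CommRingCat.ofHom (algebraMap Γ(X, U) (Bp Γ(X, U) s))) = g := by
    apply crd_ext
    rw [h1, crd_comp, crd_toSpec, ← CommRingCat.ofHom_comp, hψ]
    rfl
  refine ⟨Over.homMk (T.left.toSpecΓ ≫ Spec.map (CommRingCat.ofHom ψ)) ?_, ?_⟩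
  · rw [CQ_hom]
    change (T.left.toSpecΓ ≫ Spec.map (CommRingCat.ofHom ψ)) ≫
      Spec.map (CommRingCat.ofHom (algebraMap Γ(X, U) (Bp Γ(X, U) s))) ≫ hU.fromSpec = T.hom
    rw [← Category.assoc, h2, hg]
  · exact congrArg CommRingCat.Hom.hom (crd_toSpec (CommRingCat.ofHom ψ))

/-- The coordinates of a morphism to the chart. -/
noncomputable def co (hU : IsAffineOpen U) {T : Over X} (h : T ⟶ CQ s hU) :
    Matrix (Fin r) (Sec E U) Γ(T.left, ⊤) := Matrix.of fun j m => cr hU h (uB Γ(X, U) s j m)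

theorem isLin_co (hU : IsAffineOpen U) {T : Over X} (hT : ⊤ ≤ T.hom ⁻¹ᵁ U) (h : T ⟶ CQ s hU) :
    IsLin s hT (co hU h) where
  add j m m' := by
    change cr hU h _ = cr hU h _ + cr hU h _
    rw [uB_add, map_add]
  smul j c m := by
    change cr hU h _ = _ * cr hU h _
    rw [uB_smul, map_mul]
    congr 1
    exact congrArg (fun f : Γ(X, U) →+* Γ(T.left, ⊤) => f c) (cr_alg hU hT h)
  norm j k := by
    change cr hU h _ = _
    rw [uB_s]
    split_ifs <;> simp

theorem co_ext (hU : IsAffineOpen U) {T : Over X} {h h' : T ⟶ CQ s hU} (e : co hU h = co hU h') : h = h' := by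
  have hT : ⊤ ≤ T.hom ⁻¹ᵁ U := top_le_of_hom' (top_le_CQ hU) h
  apply cr_ext
  apply QcAlg.hom_ext
  · rw [cr_alg hU hT h, cr_alg hU hT h']
  · intro j m
    exact congrFun (congrFun e j) m

theorem exists_co (hU : IsAffineOpen U) {T : Over X} {hT : ⊤ ≤ T.hom ⁻¹ᵁ U} {a : Matrix (Fin r) (Sec E U) Γ(T.left, ⊤)}
    (ha : IsLin s hT a) : ∃ h : T ⟶ CQ s hU, co hU h = a := by
  obtain ⟨ψ, hψ, hψ'⟩ := QcAlg.exists_lift (s := s) (T.hom.appLE U ⊤ hT).hom (fun j m => a j m) ha.add ha.smul ha.norm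
  obtain ⟨h, hh⟩ := exists_cr hU hT ψ hψ
  refine ⟨h, ?_⟩
  ext j m
  change cr hU h _ = _
  rw [hh, hψ']

theorem co_comp (hU : IsAffineOpen U) {T T' : Over X} (g : T' ⟶ T) (h : T ⟶ CQ s hU) :
    co hU (g ≫ h) = (co hU h).map g.left.appTop := by
  ext j m
  change (crd (B := CommRingCat.of (Bp Γ(X, U) s)) (g.left ≫ h.left)).hom _ =
    g.left.appTop ((crd (B := CommRingCat.of (Bp Γ(X, U) s)) h.left).hom _)
  rw [crd, crd, Scheme.Hom.comp_appTop]
  rfl

end Chart

end K652.QcChart
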