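import Groth.Agent.Grass.K652.QcChart

/-!
# The Grassmannian of a quasi-coherent module of finite type
-/

set_option autoImplicit false
set_option backward.isDefEq.respectTransparency false

universe u

open CategoryTheory CategoryTheory.Limits AlgebraicGeometry Opposite TopologicalSpace

namespace K652.QcFam

open Groth.Agent.Sga67.Sec Groth.Agent.Sga67.LocBasis
open Groth.Agent.Krr.H490.NrmSub Groth.Agent.Krr.H490.NrmSub2
open K652.BasisCrit K652.NearBasis K652.GrFun K652.GrNrm K652.GrNrm2 K652.QcHom K652.GrCharts K652.QcChart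

variable {X : Scheme.{u}} {E : X.Modules} {U : X.Opens} {r : ℕ} {s : Fin r → Sec E U}

/-- The universal element on the chart. -/
theorem exists_ξ (hE : Coh.IsQCoh E) (hU : IsAffineOpen U) :
    ∃ x : RQSet E r (CQ s hU), IsB s x.1 (top_le_CQ hU) ∧
      IsCo s (fun m : Sec E U => m) x.1 (top_le_CQ hU) (co hU (𝟙 (CQ s hU))) :=
  exists_elt_of_isLin hE hU (isLin_co hU (top_le_CQ hU) _)

/-- The universal element on the chart. -/
noncomputable def ξ (s : Fin r → Sec E U) (hE : Coh.IsQCoh E) (hU : IsAffineOpen U) : RQSet E r (CQ s hU) :=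
  (exists_ξ hE hU).choose

lemma ξ_isB (hE : Coh.IsQCoh E) (hU : IsAffineOpen U) : IsB s (ξ s hE hU).1 (top_le_CQ hU) :=
  (exists_ξ hE hU).choose_spec.1

lemma ξ_isCo (hE : Coh.IsQCoh E) (hU : IsAffineOpen U) :
    IsCo s (fun m : Sec E U => m) (ξ s hE hU).1 (top_le_CQ hU) (co hU (𝟙 (CQ s hU))) :=
  (exists_ξ hE hU).choose_spec.2

lemma pull_ξ_isCo (hE : Coh.IsQCoh E) (hU : IsAffineOpen U) {T : Over X} (h : T ⟶ CQ s hU) :
    IsCo s (fun m : Sec E U => m) (pullK E h (ξ s hE hU).1) (top_le_of_hom' (top_le_CQ hU) h) (co hU h) := by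
  have h1 := (ξ_isCo (s := s) hE hU).pull h (W' := ⊤) (top_le_of_hom' (top_le_CQ hU) h) le_top
  have h2 : (co hU (𝟙 (CQ s hU))).map (h.left.appLE ⊤ ⊤ le_top) = co hU h := by
    have h3 := co_comp hU h (𝟙 (CQ s hU))
    rw [Category.comp_id] at h3
    rw [h3]
    ext j m
    simp [Scheme.Hom.appLE]
  rw [← h2]
  exact h1

variable (E r) in
/-- The index type of the charts. -/
abbrev QIdx : Type u := Σ U : {U : X.Opens // IsAffineOpen U}, (Fin r → Sec E U.1)

/-- The family of charts. -/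
noncomputable def fam (hE : Coh.IsCoh E) : ChartFam E r where
  ι := QIdx E r
  U p := p.1.1
  s p := p.2
  C p := CQ p.2 p.1.2
  hC p := top_le_CQ p.1.2
  ξ p := ξ p.2 hE.1 p.1.2
  hξ p := ξ_isB hE.1 p.1.2
  rep p T hT x hx := by
    obtain ⟨a, ha⟩ := exists_isCo hx (fun m : Sec E p.1.1 => m)
    obtain ⟨h, hh⟩ := exists_co p.1.2 (isLin_of_isCo hx ha)
    refine ⟨h, Subtype.ext ?_⟩
    have h1 := pull_ξ_isCo (s := p.2) hE.1 p.1.2 h
    rw [hh] at h1
    exact eq_of_isCo' hE.1 p.1.2 ((ξ_isB hE.1 p.1.2).pull h hT le_top) hx h1 ha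
  mono p T h h' e := by
    have h1 := pull_ξ_isCo (s := p.2) hE.1 p.1.2 h
    have h2 := pull_ξ_isCo (s := p.2) hE.1 p.1.2 h'
    have e' : pullK E h (ξ p.2 hE.1 p.1.2).1 = pullK E h' (ξ p.2 hE.1 p.1.2).1 := congrArg Subtype.val e
    rw [← e'] at h2
    exact co_ext p.1.2 (h1.unique
      ((ξ_isB hE.1 p.1.2).pull h (top_le_of_hom' (top_le_CQ p.1.2) h) le_top) h2)
  cov T x t := by
    obtain ⟨U, htU, hU, hfin⟩ := Groth.Agent.CycB.CohStalk.exists_affine_finite E hE (T.hom t)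
    have hfin' : Module.Finite Γ(X, U) (Sec E U) := hfin
    obtain ⟨n, c, hc⟩ := Module.Finite.exists_fin (R := Γ(X, U)) (M := Sec E U)
    obtain ⟨W, hW, σ, htW, hσ, h⟩ := exists_isB_near c (isGen_of_span hE.1 hU hc) x.2 t htU
    exact ⟨⟨⟨U, hU⟩, fun j => c (σ j)⟩, W, hW, htW, h⟩

/-- **Existence of Grassmannians of quasi-coherent modules of finite type.** -/
theorem exists_isGrass (hE : Coh.IsCoh E) :
    ∃ (G : Scheme.{u}) (π : G ⟶ X) (Q : G.Modules) (q : (Scheme.Modules.pullback π).obj E ⟶ Q),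
      Grass.IsGrass π E r Q q := by
  obtain ⟨H, Z, -, hZ, -⟩ := (fam (r := r) hE).exists_isUniv
  exact ⟨H.left, H.hom, _, _, isGrass_of_isUniv hZ⟩

end K652.QcFam
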