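import Groth.Agent.Grass.K652.GrNrm2
import Groth.Agent.Grass.K652.LfCover

/-!
# Morphisms out of pull-backs of quasi-coherent modules from affine opens

* `exists_hom_spec`: for `M` quasi-coherent on `Spec R`, morphisms `M ⟶ F` are given by linear maps on global sections;
* `exists_hom_pt`: for `E` quasi-coherent on `X`, `U` affine open and `T ⟶ X` with image in `U`, morphisms `E_T ⟶ N`
  are given by semilinear maps `Γ(E, U) → Γ(N, ⊤)`;
* `isGen_pt_univ`: the sections of `E` over `U` generate `E_T`.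
-/

set_option autoImplicit false
set_option backward.isDefEq.respectTransparency false

universe u

open CategoryTheory CategoryTheory.Limits AlgebraicGeometry Opposite TopologicalSpace

namespace K652.QcHom

open Groth.Agent.Sga67.Sec Groth.Agent.Sga67.LocBasis Groth.Agent.Sga67.LocBasisStalk
open Groth.Agent.Krr.H490.NrmSub Groth.Agent.Krr.H490.NrmSub2 Groth.Agent.Krr.H490.LocBasisPull
open Groth.Agent.Fga.QuotPull
open K652.BasisCrit K652.NearBasis K652.GrFun K652.GrNrm K652.GrNrm2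

section Adj

variable {C D : Type*} [Category* C] [Category* D] {L : C ⥤ D} {R : D ⥤ C} (adj : L ⊣ R)

theorem exists_map_eq {M F : D} [IsIso (adj.counit.app M)] (ψ : R.obj M ⟶ R.obj F) : ∃ f : M ⟶ F, R.map f = ψ := by
  refine ⟨inv (adj.counit.app M) ≫ L.map ψ ≫ adj.counit.app F, ?_⟩
  have h1 : R.map (inv (adj.counit.app M)) = adj.unit.app (R.obj M) := by
    rw [← cancel_mono (R.map (adj.counit.app M)), ← R.map_comp, IsIso.inv_hom_id, R.map_id,
      adj.right_triangle_components]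
    rfl
  rw [R.map_comp, R.map_comp, h1]
  have h2 := adj.unit.naturality ψ
  dsimp at h2
  rw [← Category.assoc, ← h2, Category.assoc, adj.right_triangle_components, Category.comp_id]

end Adj

/-- Morphisms out of a quasi-coherent module on `Spec R`. -/
theorem exists_hom_spec {R : CommRingCat.{u}} {M F : (Spec R).Modules} (hM : Coh.IsQCoh M)
    (μ : Γ(M, ⊤) → Γ(F, ⊤)) (hadd : ∀ m m', μ (m + m') = μ m + μ m')
    (hsmul : ∀ (a : Γ(Spec R, ⊤)) (m : Γ(M, ⊤)), μ (a • m) = a • μ m) :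
    ∃ f : M ⟶ F, ∀ m, f.app ⊤ m = μ m := by
  have h1 : IsIso (Scheme.Modules.fromTildeΓ M) :=
    @Scheme.Modules.isIso_fromTildeΓ_of_isQuasicoherent R M hM
  have h2 : IsIso ((tilde.adjunction (R := R)).counit.app M) := h1
  have key : ∀ (A B : ModuleCat.{u} R) (l : A →ₗ[R] B), ∃ ψ : A ⟶ B, ∀ a, ψ.hom a = l a :=
    fun A B l => ⟨ModuleCat.ofHom l, fun _ => rfl⟩
  obtain ⟨ψ, hψ⟩ := key ((moduleSpecΓFunctor (R := R)).obj M) ((moduleSpecΓFunctor (R := R)).obj F)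
    { toFun := μ
      map_add' := hadd
      map_smul' := fun r m => hsmul ((Scheme.ΓSpecIso R).inv r) m }
  obtain ⟨f, hf⟩ := exists_map_eq (tilde.adjunction (R := R)) ψ
  refine ⟨f, fun m => ?_⟩
  refine Eq.trans ?_ (hψ m)
  rw [← hf]
  rfl

variable {X : Scheme.{u}} {E : X.Modules} {U : X.Opens}

/-- The factorisation through the affine open. -/
theorem exists_lift (hU : IsAffineOpen U) (T : Over X) (hT : ⊤ ≤ T.hom ⁻¹ᵁ U) :
    ∃ g : T.left ⟶ Spec Γ(X, U), g ≫ hU.fromSpec = T.hom := by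
  refine ⟨IsOpenImmersion.lift hU.fromSpec T.hom ?_, IsOpenImmersion.lift_fac _ _ _⟩
  rw [hU.range_fromSpec]
  rintro _ ⟨t, rfl⟩
  exact hT (Set.mem_univ t)

/-- Morphisms out of `E_T` for `E` quasi-coherent and `T` over an affine open. -/
theorem exists_hom_pt (hE : Coh.IsQCoh E) (hU : IsAffineOpen U) (T : Over X) (hT : ⊤ ≤ T.hom ⁻¹ᵁ U)
    (N : T.left.Modules) (μ : Sec E U → Sec N ⊤) (hadd : ∀ m m', μ (m + m') = μ m + μ m')
    (hsmul : ∀ (a : Γ(X, U)) (m : Sec E U), μ (a • m) = T.hom.appLE U ⊤ hT a • μ m) :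
    ∃ f : ET E T ⟶ N, ∀ m, appS f ⊤ (pt E T hT m) = μ m := by
  obtain ⟨g, hg⟩ := exists_lift hU T hT
  let p := hU.fromSpec
  let M : (Spec Γ(X, U)).Modules := (Scheme.Modules.pullback p).obj E
  have hM : Coh.IsQCoh M := Groth.Agent.VarietyB.PullSec.isQCoh_pullback p E hE
  have eU : ⊤ ≤ p ⁻¹ᵁ U := by
    rw [show p ⁻¹ᵁ U = ⊤ from hU.fromSpec_preimage_self]
  have eU' : U ≤ p ''ᵁ ⊤ := by
    rw [Scheme.Hom.image_top_eq_opensRange]
    exact hU.opensRange_fromSpec.ge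
  have hb := Groth.Agent.Fga.SecComp.sec_bijective_of_isOpenImmersion p E eU eU'
  have hbO := K652.LfCover.appLE_bijective p eU eU'
  choose ν hν using hb.2
  have hν' : ∀ m, ν (psec p E eU m) = m := fun m => hb.1 (hν _)
  let F : (Spec Γ(X, U)).Modules := (Scheme.Modules.pushforward g).obj N
  let μ' : Γ(M, ⊤) → Γ(F, ⊤) := fun z => res N (le_top : g ⁻¹ᵁ ⊤ ≤ ⊤) (μ (ν z))
  obtain ⟨f', hf'⟩ := exists_hom_spec (R := Γ(X, U)) (M := M) (F := F) hM μ' (by
      intro z z'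
      obtain ⟨m, rfl⟩ := hb.2 z
      obtain ⟨m', rfl⟩ := hb.2 z'
      have h1 : psec p E eU m + psec p E eU m' = psec p E eU (m + m') :=
        (map_add (Groth.Agent.VarietyB.PullSec.sec p E eU) m m').symm
      change res N _ (μ (ν (psec p E eU m + psec p E eU m'))) =
        res N _ (μ (ν (psec p E eU m))) + res N _ (μ (ν (psec p E eU m')))
      rw [h1, hν', hν', hν', hadd, map_add]) (by
      intro a z
      obtain ⟨m, rfl⟩ := hb.2 z
      obtain ⟨a', rfl⟩ := hbO.2 a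
      have h1 : p.appLE U ⊤ eU a' • psec p E eU m = psec p E eU (a' • m) := (psec_smul p eU a' m).symm
      change res N (le_top : g ⁻¹ᵁ ⊤ ≤ ⊤) (μ (ν (p.appLE U ⊤ eU a' • psec p E eU m))) =
        g.app ⊤ (p.appLE U ⊤ eU a') • res N (le_top : g ⁻¹ᵁ ⊤ ≤ ⊤) (μ (ν (psec p E eU m)))
      rw [h1, hν', hν', hsmul, res_smul]
      congr 1
      have h2 : resO T.left (le_top : g ⁻¹ᵁ ⊤ ≤ ⊤) (T.hom.appLE U ⊤ hT a') = T.hom.appLE U (g ⁻¹ᵁ ⊤) (hT) a' :=
        congr($(Scheme.Hom.appLE_map T.hom hT (homOfLE (le_top : g ⁻¹ᵁ ⊤ ≤ ⊤)).op) a')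
      rw [h2]
      have h3 : ∀ (q : T.left ⟶ X) (hq : g ≫ p = q) (e : g ⁻¹ᵁ ⊤ ≤ q ⁻¹ᵁ U),
          q.appLE U (g ⁻¹ᵁ ⊤) e a' = g.app ⊤ (p.appLE U ⊤ eU a') := by
        rintro q rfl e
        have := Scheme.Hom.appLE_comp_appLE g p U ⊤ (g ⁻¹ᵁ ⊤) eU le_rfl
        rw [← Scheme.Hom.appLE_eq_app]
        exact (congr($(this) a')).symm
      exact h3 T.hom hg _)
  let f'' : (Scheme.Modules.pullback g).obj M ⟶ N :=
    ((Scheme.Modules.pullbackPushforwardAdjunction g).homEquiv M N).symm f'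
  have hf'' : ∀ z : Sec M ⊤, appS f'' (g ⁻¹ᵁ ⊤)
      ((((Scheme.Modules.pullbackPushforwardAdjunction g).unit.app M).app ⊤) z) = μ' z := by
    intro z
    have h1 : (Scheme.Modules.pullbackPushforwardAdjunction g).unit.app M ≫
        (Scheme.Modules.pushforward g).map f'' = f' := by
      have := ((Scheme.Modules.pullbackPushforwardAdjunction g).homEquiv M N).apply_symm_apply f'
      rwa [Adjunction.homEquiv_unit] at this
    refine Eq.trans ?_ (hf' z)
    rw [← h1]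
    rfl
  let t := tri g p T.hom hg E
  have ht : ∀ m, appS t.hom ⊤ (psec g M (U := ⊤) (V := ⊤) (le_rfl : (⊤ : T.left.Opens) ≤ g ⁻¹ᵁ ⊤) (psec p E eU m)) = pt E T hT m := by
    intro m
    have h1 : t.hom = (Scheme.Modules.pullbackComp g p).hom.app E ≫
        (Scheme.Modules.pullbackCongr hg).hom.app E := by
      change (tri g p T.hom hg E).hom = _
      rw [tri_def]
      rfl
    rw [h1, appS_comp]
    have e'' : ⊤ ≤ (g ≫ p) ⁻¹ᵁ U := by rw [hg]; exact hT
    have h2 := Groth.Agent.Fga.SecComp.sec_comp g p E eU (le_rfl : ⊤ ≤ g ⁻¹ᵁ ⊤) e'' m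
    have h3 := Groth.Agent.Fga.SecComp.sec_congr hg E e'' hT m
    rw [← h2] at h3
    exact h3
  refine ⟨t.inv ≫ f'', fun m => ?_⟩
  have h4 : appS t.inv ⊤ (pt E T hT m) = psec g M (U := ⊤) (V := ⊤) (le_rfl : (⊤ : T.left.Opens) ≤ g ⁻¹ᵁ ⊤) (psec p E eU m) := by
    rw [← ht, ← appS_comp, Iso.hom_inv_id]
    rfl
  rw [appS_comp, h4]
  have h6 := appS_res f'' (U := g ⁻¹ᵁ ⊤) (V := ⊤) (le_rfl : (⊤ : T.left.Opens) ≤ g ⁻¹ᵁ ⊤)
    ((((Scheme.Modules.pullbackPushforwardAdjunction g).unit.app M).app ⊤) (psec p E eU m))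
  refine h6.trans ?_
  refine (congrArg _ (hf'' _)).trans ?_
  change res N _ (res N _ (μ (ν (psec p E eU m)))) = _
  rw [hν', res_res, res_self]

end K652.QcHom
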